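import Mathlib
import Cfsg.Agent.HeFacts.CentBound

/-!
All elements commuting with given elements, searched along an exact chain: a product of
transversal words is pursued only while the images of fixed base points stay fixed.
-/

namespace Cfsg.Agent.CosetCert

namespace Data

variable (D : Data)

/-- The transversal word of the `j`th point of a level. -/
noncomputable def tword (L : Level) (fuel : Nat) : Nat → List Nat :=
  Nat.rec (fun _ => []) (fun _ ih j =>
    Bool.rec (motive := fun _ => List Nat)
      (ih (Nat.mod (Nat.div (L.pts j) 256) 4294967296) ++ word L.gens (Nat.mod (L.pts j) 256))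
      [] (Nat.beq j 0)) fuel

/-- The transversal word reaches its point. -/
noncomputable def checkTword (L : Level) (fuel j : Nat) : Bool :=
  Nat.beq (D.fwd (tword L fuel j) L.base) (Nat.div (L.pts j) 1099511627776)

/-- All words fix the point. -/
noncomputable def fixedBy (zs : List (List Nat)) (p : Nat) : Bool :=
  zs.all fun z => Nat.beq (D.fwd z p) p

/-- Every product along the chain that may commute with `zs` passes the test. -/
noncomputable def searchB (zs : List (List Nat)) (fuel : Nat) (test : List Nat → Bool) :
    List Level → List Nat → Bool :=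
  List.rec test fun L _ ih acc =>
    allFrom (fun j => force (Nat.div (L.pts j) 1099511627776) fun p =>
      (D.fixedBy zs L.base && !(D.fixedBy zs (D.fwd acc p))) || ih (tword L fuel j ++ acc)) 0 L.size

variable {D}

theorem fwd_app (v w : List Nat) (c : Nat) : D.fwd (v ++ w) c = D.fwd w (D.fwd v c) := by
  induction v generalizing c with
  | nil => rfl
  | cons x t ih =>
    show force (D.T c x) (D.fwd (t ++ w)) = D.fwd w (force (D.T c x) (D.fwd t))
    rw [force_eq, force_eq, ih]

section main

variable {β : Type*} [DecidableEq β] {rels : Set (FreeGroup β)} {Sg : List (FreeGroup β)}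
  {enc : β → Nat} {dec : Nat → β × Bool} {RL : List (List (β × Bool))}

/-- With exact orbit lengths, the search meets every element commuting with `zs`. -/
theorem search_sound (h : D.Valid) (S : Spells D rels Sg enc dec RL)
    (φ : PresentedGroup rels →* Equiv.Perm (Fin D.n))
    (hfwd : ∀ (l : List (β × Bool)) (c : Fin D.n),
      (((φ (PresentedGroup.mk rels (FreeGroup.mk l)))⁻¹ c : Fin D.n) : Nat) =
        D.fwd (l.map (code D.iv enc)) c)
    (zs : List (List Nat)) (fuel : Nat) (test : List Nat → Bool)
    (levels : List Level) (hok : D.LevelsOK [] levels)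
    (htw : ∀ L ∈ levels, ∀ j, j < L.size → D.checkTword L fuel j = true)
    (hle : Nat.card φ.range ≤ (levels.map Level.size).prod)
    (hsearch : D.searchB zs fuel test levels [] = true)
    (σ : Equiv.Perm (Fin D.n)) (hσ : σ ∈ φ.range)
    (hcomm : ∀ zw ∈ zs, ∀ c : Fin D.n,
      ∃ d : Fin D.n, (d : Nat) = D.fwd zw c ∧ D.fwd zw (σ c : Fin D.n) = (σ d : Fin D.n)) :
    ∃ w : List Nat, test w = true ∧ (∀ x ∈ w, x < D.K) ∧
      ∀ c : Fin D.n, ((σ c : Fin D.n) : Nat) = D.fwd w c := by
  classical
  suffices key : ∀ (bs : List Nat) (ls : List Level), D.LevelsOK bs ls →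
      (ls.map Level.size).prod ≤ Nat.card (fixing φ bs) ∧
      (Nat.card (fixing φ bs) ≤ (ls.map Level.size).prod →
        (∀ L ∈ ls, ∀ j, j < L.size → D.checkTword L fuel j = true) →
        ∀ (acc : List Nat) (σA h' : Equiv.Perm (Fin D.n)),
          (∀ x ∈ acc, x < D.K) → (∀ c : Fin D.n, ((σA c : Fin D.n) : Nat) = D.fwd acc c) →
          h' ∈ fixing φ bs → σ = σA * h' → D.searchB zs fuel test ls acc = true →
          ∃ w : List Nat, test w = true ∧ (∀ x ∈ w, x < D.K) ∧
            ∀ c : Fin D.n, ((σ c : Fin D.n) : Nat) = D.fwd w c) by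
    have h0 : fixing φ [] = φ.range :=
      le_antisymm (fun τ hτ => hτ.1) (fun τ hτ => ⟨hτ, fun c hc => absurd hc (List.not_mem_nil)⟩)
    exact (key [] levels hok).2 (by rw [h0]; exact hle) htw [] 1 σ (by simp) (fun c => rfl)
      (by rw [h0]; exact hσ) (by rw [one_mul]) hsearch
  intro bs ls
  induction ls generalizing bs with
  | nil =>
    intro _
    have hpos : 0 < Nat.card (fixing φ bs) := Nat.card_pos
    simp only [List.map_nil, List.prod_nil]
    refine ⟨by omega, fun hle _ acc σA h' hacc hA hh' hs ht => ⟨acc, ht, hacc, fun c => ?_⟩⟩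
    have hbot := Subgroup.card_eq_one.1 (le_antisymm hle hpos)
    rw [hbot, Subgroup.mem_bot] at hh'
    rw [hs, hh', mul_one]
    exact hA c
  | cons L rest ih =>
    rintro ⟨⟨hb, hg, hp⟩, hrest⟩
    obtain ⟨ihlow, ihup⟩ := ih (bs ++ [L.base]) hrest
    let b : Fin D.n := ⟨L.base, hb⟩
    have hword : ∀ w ∈ L.gens, ∃ σ ∈ fixing φ bs,
        ∀ c : Fin D.n, ((σ c : Fin D.n) : Nat) = D.fwd w c := by
      intro w hw
      have h1 := List.all_eq_true.1 hg w hw
      rw [Bool.and_eq_true] at h1
      obtain ⟨h1, h2⟩ := h1
      have hcode : (w.map dec).map (code D.iv enc) = w := by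
        rw [List.map_map]
        conv_rhs => rw [← List.map_id w]
        exact List.map_congr_left fun x hx =>
          S.code_dec x (Nat.ble_eq.mp (List.all_eq_true.1 h1 x hx))
      have happ : ∀ c : Fin D.n,
          (((φ (PresentedGroup.mk rels (FreeGroup.mk (w.map dec))))⁻¹ c : Fin D.n) : Nat) =
            D.fwd w c := fun c => by rw [hfwd, hcode]
      refine ⟨_, ⟨inv_mem ⟨_, rfl⟩, fun c hc => Fin.ext ?_⟩, happ⟩
      rw [happ c]
      exact Nat.eq_of_beq_eq_true (List.all_eq_true.1 h2 _ hc)
    let pt : Nat → Nat := fun j => L.pts j / 1099511627776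
    have hspec : ∀ j, j < L.size → pt j < D.n ∧ L.pos (pt j) = j ∧ (j = 0 → pt j = L.base) ∧
        (j ≠ 0 → ∃ par, par < j ∧ ∃ w ∈ L.gens, D.fwd w (pt par) = pt j) := by
      intro j hj
      have h1 := hp j hj
      simp only [checkPoint, force_eq, gate_eq, Bool.and_eq_true] at h1
      obtain ⟨hpos, hlt, h1⟩ := h1
      refine ⟨Nat.ble_eq.mp hlt, Nat.eq_of_beq_eq_true hpos, ?_, ?_⟩
      · rintro rfl
        exact Nat.eq_of_beq_eq_true h1
      · intro hj0
        have : Nat.beq j 0 = false := by
          cases hbb : Nat.beq j 0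
          · rfl
          · exact absurd (Nat.eq_of_beq_eq_true hbb) hj0
        rw [this] at h1
        simp only [Bool.and_eq_true] at h1
        obtain ⟨hpar, hgl, hT⟩ := h1
        refine ⟨_, Nat.ble_eq.mp hpar, _, ?_, Nat.eq_of_beq_eq_true hT⟩
        rw [word_eq, List.getD_eq_getElem _ _ (Nat.ble_eq.mp hgl)]
        exact List.getElem_mem _
    have horb : ∀ j (hj : j < L.size),
        (⟨pt j, (hspec j hj).1⟩ : Fin D.n) ∈ MulAction.orbit (fixing φ bs) b := by
      intro j
      induction j using Nat.strong_induction_on with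
      | _ j ihj =>
        intro hj
        rcases eq_or_ne j 0 with rfl | hj0
        · have : (⟨pt 0, (hspec 0 hj).1⟩ : Fin D.n) = b := Fin.ext ((hspec 0 hj).2.2.1 rfl)
          rw [this]; exact MulAction.mem_orbit_self _
        · obtain ⟨par, hpar, w, hw, hT⟩ := (hspec j hj).2.2.2 hj0
          obtain ⟨σ, hσ, happ⟩ := hword w hw
          have hprev := ihj par hpar (hpar.trans hj)
          have : (⟨pt j, (hspec j hj).1⟩ : Fin D.n) =
              (⟨σ, hσ⟩ : fixing φ bs) •
                (⟨pt par, (hspec par (hpar.trans hj)).1⟩ : Fin D.n) := by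
            apply Fin.ext
            show pt j = ((σ _ : Fin D.n) : Nat)
            rw [happ]; exact hT.symm
          rw [this]
          exact MulAction.mem_orbit_of_mem_orbit _ hprev
    let emb : Fin L.size → Fin D.n := fun j => ⟨pt j, (hspec j j.2).1⟩
    have hinj : Function.Injective emb := by
      intro i j hij
      have : pt i = pt j := congrArg Fin.val hij
      apply Fin.ext
      rw [← (hspec i i.2).2.1, ← (hspec j j.2).2.1, this]
    have hsub : Set.range emb ⊆ MulAction.orbit (fixing φ bs) b := by
      rintro _ ⟨j, rfl⟩; exact horb j j.2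
    have hcard : L.size ≤ (MulAction.orbit (fixing φ bs) b).ncard := by
      calc L.size = (Set.range emb).ncard := by
            rw [← Nat.card_coe_set_eq, Nat.card_range_of_injective hinj, Nat.card_fin]
        _ ≤ _ := Set.ncard_le_ncard hsub (Set.toFinite _)
    have hstab : Nat.card (fixing φ (bs ++ [L.base])) =
        Nat.card (MulAction.stabilizer (fixing φ bs) b) := by
      refine Nat.card_congr
        { toFun := fun σ => ⟨⟨σ.1, σ.2.1, fun c hc => σ.2.2 c (List.mem_append_left _ hc)⟩,
            σ.2.2 b (List.mem_append_right _ (List.mem_singleton.2 rfl))⟩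
          invFun := fun σ => ⟨σ.1.1, σ.1.2.1, fun c hc => ?_⟩
          left_inv := fun _ => rfl
          right_inv := fun _ => rfl }
      rcases List.mem_append.1 hc with hc | hc
      · exact σ.1.2.2 c hc
      · have : c = b := Fin.ext (List.mem_singleton.1 hc)
        rw [this]; exact σ.2
    have hmul : (MulAction.orbit (fixing φ bs) b).ncard * Nat.card (fixing φ (bs ++ [L.base])) =
        Nat.card (fixing φ bs) := by
      rw [hstab, ← MulAction.index_stabilizer, mul_comm, Subgroup.card_mul_index]
    refine ⟨?_, fun hle => ?_⟩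
    · rw [← hmul, List.map_cons, List.prod_cons]
      exact Nat.mul_le_mul hcard ihlow
    rw [List.map_cons, List.prod_cons, ← hmul] at hle
    have hopos : 0 < (MulAction.orbit (fixing φ bs) b).ncard :=
      (Set.ncard_pos (Set.toFinite _)).2 ⟨b, MulAction.mem_orbit_self _⟩
    have hspos : 0 < Nat.card (fixing φ (bs ++ [L.base])) := Nat.card_pos
    have hr : Nat.card (fixing φ (bs ++ [L.base])) ≤ (rest.map Level.size).prod := by
      by_contra hlt
      push Not at hlt
      have : L.size * (rest.map Level.size).prod < (MulAction.orbit (fixing φ bs) b).ncard *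
          Nat.card (fixing φ (bs ++ [L.base])) :=
        calc L.size * (rest.map Level.size).prod
            ≤ (MulAction.orbit (fixing φ bs) b).ncard * (rest.map Level.size).prod :=
              Nat.mul_le_mul_right _ hcard
          _ < _ := Nat.mul_lt_mul_of_pos_left hlt hopos
      omega
    have ho : (MulAction.orbit (fixing φ bs) b).ncard ≤ L.size := by
      by_contra hlt
      push Not at hlt
      have : L.size * (rest.map Level.size).prod < (MulAction.orbit (fixing φ bs) b).ncard *
          Nat.card (fixing φ (bs ++ [L.base])) :=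
        calc L.size * (rest.map Level.size).prod
            ≤ L.size * Nat.card (fixing φ (bs ++ [L.base])) := Nat.mul_le_mul_left _ ihlow
          _ < _ := Nat.mul_lt_mul_of_pos_right hlt hspos
      omega
    have horbeq : MulAction.orbit (fixing φ bs) b = Set.range emb := by
      refine (Set.eq_of_subset_of_ncard_le hsub ?_ (Set.toFinite _)).symm
      rw [← Nat.card_coe_set_eq (Set.range emb), Nat.card_range_of_injective hinj, Nat.card_fin]
      exact ho
    intro htw acc σA h' hacc hA hh' hs ht
    have hmem : h' b ∈ MulAction.orbit (fixing φ bs) b := ⟨⟨h', hh'⟩, rfl⟩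
    rw [horbeq] at hmem
    obtain ⟨j, hj⟩ := hmem
    -- the transversal word
    have hu : ∀ f i, (∀ x ∈ tword L f i, x < D.K) ∧ ∃ τ ∈ fixing φ bs,
        ∀ c : Fin D.n, ((τ c : Fin D.n) : Nat) = D.fwd (tword L f i) c := by
      intro f
      induction f with
      | zero => exact fun i => ⟨by simp [tword], 1, one_mem _, fun c => rfl⟩
      | succ f ihf =>
        intro i
        have e : tword L (f + 1) i = Bool.rec (motive := fun _ => List Nat)
            (tword L f (Nat.mod (Nat.div (L.pts i) 256) 4294967296) ++
              word L.gens (Nat.mod (L.pts i) 256)) [] (Nat.beq i 0) := rfl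
        rw [e]
        cases Nat.beq i 0
        · obtain ⟨h1, τ, hτ, happ⟩ := ihf (Nat.mod (Nat.div (L.pts i) 256) 4294967296)
          by_cases hl : Nat.mod (L.pts i) 256 < L.gens.length
          · have hwm : word L.gens (Nat.mod (L.pts i) 256) ∈ L.gens := by
              rw [word_eq, List.getD_eq_getElem _ _ hl]; exact List.getElem_mem _
            obtain ⟨ρ, hρ, happ'⟩ := hword _ hwm
            refine ⟨fun x hx => ?_, ρ * τ, mul_mem hρ hτ, fun c => ?_⟩
            · rcases List.mem_append.1 hx with hx | hx
              · exact h1 x hx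
              · have h2 := List.all_eq_true.1 hg _ hwm
                rw [Bool.and_eq_true] at h2
                exact Nat.ble_eq.mp (List.all_eq_true.1 h2.1 x hx)
            · rw [fwd_app, Equiv.Perm.mul_apply, happ', happ]
          · have hnil : word L.gens (Nat.mod (L.pts i) 256) = [] := by
              rw [word_eq, List.getD_eq_default _ _ (not_lt.1 hl)]
            simp only [hnil, List.append_nil]
            exact ⟨h1, τ, hτ, happ⟩
        · exact ⟨by simp, 1, one_mem _, fun c => rfl⟩
    obtain ⟨hul, τ, hτ, happ⟩ := hu fuel j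
    have hτb : τ b = h' b := by
      rw [← hj]
      apply Fin.ext
      rw [happ]
      exact Nat.eq_of_beq_eq_true (htw L (List.mem_cons_self ..) j j.2)
    have hnext : τ⁻¹ * h' ∈ fixing φ (bs ++ [L.base]) := by
      refine ⟨mul_mem (inv_mem hτ.1) hh'.1, fun c hc => ?_⟩
      rw [Equiv.Perm.mul_apply, Equiv.Perm.inv_eq_iff_eq]
      rcases List.mem_append.1 hc with hc | hc
      · rw [hh'.2 c hc, hτ.2 c hc]
      · have : c = b := Fin.ext (List.mem_singleton.1 hc)
        rw [this, hτb]
    have hstep := (allFrom_iff _ _ _).1 ht j (Nat.zero_le _) (by rw [Nat.zero_add]; exact j.2)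
    simp only [force_eq] at hstep
    rcases Bool.or_eq_true_iff.1 hstep with hcut | hcont
    · exfalso
      rw [Bool.and_eq_true, Bool.not_eq_true'] at hcut
      obtain ⟨hfb, hnf⟩ := hcut
      have hyes : D.fixedBy zs (D.fwd acc (pt j)) = true := by
        refine List.all_eq_true.2 fun zw hzw => ?_
        have hbz : D.fwd zw L.base = L.base :=
          Nat.eq_of_beq_eq_true (List.all_eq_true.1 hfb zw hzw)
        obtain ⟨d, hd, hd'⟩ := hcomm zw hzw b
        have hdb : d = b := Fin.ext (hd.trans hbz)
        rw [hdb] at hd'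
        have hσb : ((σ b : Fin D.n) : Nat) = D.fwd acc (pt j) := by
          rw [hs, Equiv.Perm.mul_apply, ← hj, hA]
        rw [hσb] at hd'
        simpa using hd'
      have hno : D.fixedBy zs (D.fwd acc (pt j)) = false := hnf
      rw [hyes] at hno
      exact Bool.noConfusion hno
    · refine ihup hr (fun L' hL' => htw L' (List.mem_cons_of_mem _ hL'))
        (tword L fuel j ++ acc) (σA * τ) (τ⁻¹ * h') ?_ (fun c => ?_) hnext ?_ (by simp only [searchB, force_eq]; exact hcont)
      · intro x hx
        rcases List.mem_append.1 hx with hx | hx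
        exacts [hul x hx, hacc x hx]
      · rw [fwd_app, Equiv.Perm.mul_apply, hA, happ]
      · rw [hs, mul_assoc, mul_inv_cancel_left]

end main

end Data

end Cfsg.Agent.CosetCert
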