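import Cfsg.Agent.HeFacts.Cent
import Cfsg.Agent.HeOut.CentEnum

/-!
The Held group acting on the table from the right, keys of elements at four points, and the
states of the centralizer of `e`.
-/

namespace Cfsg.Agent.HeOut

open Cfsg.Agent.CosetCert Cfsg.Agent.HeFacts

/-- The action. -/
noncomputable def act : Cfsg.Spor.He →* Equiv.Perm (Fin 2058) := exists_action.choose

theorem act_inj : Function.Injective act := exists_action.choose_spec.1

theorem card_range : Nat.card act.range = 4030387200 := exists_action.choose_spec.2.1

theorem act_fwd : ∀ (l : List (Cfsg.Spor.He.Gen × Bool)) (c : Fin 2058),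
    (((act (PresentedGroup.mk
        (Cfsg.Spor.coxRelators Cfsg.Spor.He.edges ∪ {r | r ∈ Cfsg.Spor.He.extra})
        (FreeGroup.mk l)))⁻¹ c : Fin 2058) : Nat) =
      HeSp44.data.fwd (l.map (Data.code HeSp44.data.iv HeSp44.enc)) c :=
  exists_action.choose_spec.2.2.1

theorem act_elem (w : List Nat) (hw : ∀ x ∈ w, x < 7) (c : Fin 2058) :
    (((act (elem w))⁻¹ c : Fin 2058) : Nat) = HeSp44.data.fwd w c :=
  exists_action.choose_spec.2.2.2 w hw c

theorem card_he : Nat.card Cfsg.Spor.He = 4030387200 :=
  (Nat.card_congr (MonoidHom.ofInjective act_inj).toEquiv).trans card_range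

/-- The image of a point under an element, from the right. -/
noncomputable def img (g : Cfsg.Spor.He) (c : Fin 2058) : Nat := (((act g)⁻¹ c : Fin 2058) : Nat)

theorem img_lt (g : Cfsg.Spor.He) (c : Fin 2058) : img g c < 4096 :=
  lt_trans ((act g)⁻¹ c).2 (by norm_num)

/-- The key of an element. -/
noncomputable def keyG (g : Cfsg.Spor.He) : Nat :=
  img g ⟨0, by norm_num⟩ + (4096 * img g ⟨1, by norm_num⟩ +
    (16777216 * img g ⟨15, by norm_num⟩ + 68719476736 * img g ⟨34, by norm_num⟩))

theorem keyG_inj : Function.Injective keyG := by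
  intro g g' hgg
  obtain ⟨e0, e1, e2, e3⟩ := pack4_inj (img_lt _ _) (img_lt _ _) (img_lt _ _) (img_lt _ _)
    (img_lt _ _) (img_lt _ _) hgg
  obtain ⟨-, hbase4⟩ := he_chain act act_fwd 1 [] (fun c => rfl) HeOrder.levels HeOrder.levels_ok
    [2058, 1360, 360, 4]
    ⟨Or.inl (by decide +kernel), Or.inl (by decide +kernel), Or.inl (by decide +kernel),
      Or.inl (by decide +kernel), trivial⟩
    (by rw [card_range]; decide +kernel)
  have hfix : act g' * (act g)⁻¹ = 1 := by
    refine hbase4 _ (mul_mem ⟨_, rfl⟩ (inv_mem ⟨_, rfl⟩)) ?_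
    intro c hc
    rw [show HeOrder.levels.map Data.Level.base = [0, 1, 15, 34] from rfl] at hc
    have key : (act g)⁻¹ c = (act g')⁻¹ c := by
      simp only [List.mem_cons, List.not_mem_nil, or_false] at hc
      rcases hc with hc | hc | hc | hc
      · rw [show c = ⟨0, by norm_num⟩ from Fin.ext hc]; exact Fin.ext e0
      · rw [show c = ⟨1, by norm_num⟩ from Fin.ext hc]; exact Fin.ext e1
      · rw [show c = ⟨15, by norm_num⟩ from Fin.ext hc]; exact Fin.ext e2
      · rw [show c = ⟨34, by norm_num⟩ from Fin.ext hc]; exact Fin.ext e3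
    rw [Equiv.Perm.mul_apply, key, ← Equiv.Perm.mul_apply, mul_inv_cancel, Equiv.Perm.one_apply]
  exact (act_inj (mul_inv_eq_one.1 hfix)).symm

/-- Multiplying from the right moves the key. -/
theorem keyG_mul (g h : Cfsg.Spor.He) (p : Nat → Nat) (hp : ∀ c : Fin 2058, p c = img h c) :
    keyG (g * h) = moveKey p (keyG g) := by
  have hm : ∀ c, img (g * h) c = p (img g c) := by
    intro c
    show (((act (g * h))⁻¹ c : Fin 2058) : Nat) = p (((act g)⁻¹ c : Fin 2058) : Nat)
    rw [hp, map_mul, mul_inv_rev, Equiv.Perm.mul_apply]
    rfl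
  unfold keyG
  rw [moveKey_pack _ (img_lt _ _) (img_lt _ _) (img_lt _ _) (img_lt _ _), ← hm, ← hm, ← hm,
    ← hm]

theorem keyG_one : keyG 1 = keyOf 0 := by
  simp only [keyG, img, map_one, inv_one, Equiv.Perm.one_apply]
  decide +kernel

theorem keyG_mul_elem (g : Cfsg.Spor.He) (w : List Nat) (hw : ∀ x ∈ w, x < 7) :
    keyG (g * elem w) = moveKey (HeSp44.data.fwd w) (keyG g) :=
  keyG_mul g _ _ fun c => (act_elem w hw c).symm

theorem keyG_elem (w : List Nat) (hw : ∀ x ∈ w, x < 7) :
    keyG (elem w) = moveKey (HeSp44.data.fwd w) (keyOf 0) := by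
  rw [← keyG_one, ← keyG_mul_elem 1 w hw, one_mul]

/-- Two words with the same images of the four points are one element. -/
theorem elem_eq {u v : List Nat} (hu : ∀ x ∈ u, x < 7) (hv : ∀ x ∈ v, x < 7)
    (h : moveKey (HeSp44.data.fwd u) (keyOf 0) = moveKey (HeSp44.data.fwd v) (keyOf 0)) :
    elem u = elem v :=
  keyG_inj ((keyG_elem u hu).trans (h.trans (keyG_elem v hv).symm))

theorem elem_ne {u v : List Nat} (hu : ∀ x ∈ u, x < 7) (hv : ∀ x ∈ v, x < 7)
    (h : moveKey (HeSp44.data.fwd u) (keyOf 0) ≠ moveKey (HeSp44.data.fwd v) (keyOf 0)) :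
    elem u ≠ elem v := fun he => h (by rw [← keyG_elem u hu, ← keyG_elem v hv, he])

/-- The two generators of the centralizer of `e`. -/
noncomputable def gx : Bool → Cfsg.Spor.He := pick (elem wordX) (elem wordY)

/-- The stored permutation of a letter of the table. -/
noncomputable def permOf (l : Bool) : Nat → Nat :=
  Bool.rec (motive := fun _ => Nat → Nat) (get48 permX) (get48 permY) l

theorem permOf_spec (l : Bool) (c : Fin 2058) : permOf l c = img (gx l) c := by
  cases l
  · show get48 permX c = _
    have h := wordXc_ok c c.2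
    simp only [checkWord, gate_eq, Bool.and_eq_true] at h
    exact (Nat.eq_of_beq_eq_true h.1).trans (act_elem wordX (by decide) c).symm
  · show get48 permY c = _
    have h := wordYc_ok c c.2
    simp only [checkWord, gate_eq, Bool.and_eq_true] at h
    exact (Nat.eq_of_beq_eq_true h.1).trans (act_elem wordY (by decide) c).symm

/-- The element of a state. -/
noncomputable def stElem (i : Nat) : Cfsg.Spor.He := steps.val gx i

theorem reading : Reading steps gx keyG (fun l => moveKey (permOf l)) keyOf where
  key_inj := keyG_inj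
  key_mul := fun g l => keyG_mul g _ _ (permOf_spec l)
  lab_zero := keyG_one.symm
  lab_nxt := fun l i hi => by
    obtain ⟨h1, h2, -⟩ := state_spec hi
    cases l
    exacts [(edge_spec h1).2.1, (edge_spec h2).2.1]
  lab_one := fun i hi h => by
    by_contra h0
    exact (root_spec h0 (state_spec hi).2.2.2.2).2.1 h

theorem key_stElem {i : Nat} (hi : i < 21504) : keyG (stElem i) = keyOf i := reading.key_val i hi

theorem gx_commute (l : Bool) : elem [4] * gx l = gx l * elem [4] := by
  cases l
  · show elem [4] * elem wordX = elem wordX * elem [4]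
    rw [← elem_append, ← elem_append]
    exact elem_eq (by decide) (by decide) (by decide +kernel)
  · show elem [4] * elem wordY = elem wordY * elem [4]
    rw [← elem_append, ← elem_append]
    exact elem_eq (by decide) (by decide) (by decide +kernel)

theorem stElem_commute : ∀ i, i < 21504 → elem [4] * stElem i = stElem i * elem [4] := by
  intro i
  induction i using Nat.strong_induction_on with
  | _ i ih =>
    intro hi
    rcases eq_or_ne i 0 with rfl | h0
    · rw [stElem, steps.val_zero, mul_one, one_mul]
    · rw [stElem, steps.val_succ gx hi h0, ← mul_assoc,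
        show elem [4] * steps.val gx (steps.prv (steps.bit i) i) =
          steps.val gx (steps.prv (steps.bit i) i) * elem [4] from
          ih _ (steps.parent_lt i hi h0) (steps.prv_lt _ _ hi),
        mul_assoc, gx_commute, mul_assoc]

/-- The transvection as an element. -/
def tvSL : Matrix.SpecialLinearGroup (Fin 5) (ZMod 2) :=
  ⟨Matrix.transvection 0 1 1, by decide +kernel⟩

theorem card_cent : Nat.card (Subgroup.centralizer {elem [4]}) = 21504 :=
  (centralizer_equiv tvSL rfl).2.1

/-- Every element commuting with `e` is a state. -/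
theorem exists_state {g : Cfsg.Spor.He} (hg : elem [4] * g = g * elem [4]) :
    ∃ i, i < 21504 ∧ stElem i = g := by
  classical
  have := finite_he
  let f : Fin 21504 → Subgroup.centralizer {elem [4]} := fun i => ⟨stElem i, by
    rw [Subgroup.mem_centralizer_iff]
    rintro _ rfl
    exact stElem_commute i i.2⟩
  have hcl : ∀ p ∈ Submonoid.closure (Set.range gx), ∃ i, i < 21504 ∧ stElem i = p := by
    intro p hp
    induction hp using Submonoid.closure_induction_right with
    | one => exact ⟨0, by norm_num, steps.val_zero gx⟩
    | mul_right p hp q hq ih =>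
      obtain ⟨l, rfl⟩ := hq
      obtain ⟨i, hi, rfl⟩ := ih
      exact ⟨_, steps.nxt_lt l i hi, reading.val_nxt l i hi⟩
  obtain ⟨hcx, -, -⟩ : Nat.card (Subgroup.centralizer {elem [4]}) = 21504 ∧ True ∧ True :=
    ⟨card_cent, trivial, trivial⟩
  have hinj : ∀ i, i < 21504 → ∀ j, j < 21504 → keyOf i = keyOf j → i = j := by
    intro i
    induction i using Nat.strong_induction_on with
    | _ i ih =>
      intro hi j hj hij
      rcases eq_or_ne i 0 with rfl | h0
      · exact (reading.lab_one j hj hij.symm).symm
      · have hp := steps.prv_lt (steps.bit i) i hi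
        have hq := steps.prv_lt (steps.bit i) j hj
        have e : stElem i = stElem j :=
          keyG_inj ((key_stElem hi).trans (hij.trans (key_stElem hj).symm))
        have h1 : stElem (steps.prv (steps.bit i) i) * gx (steps.bit i) =
            stElem (steps.prv (steps.bit i) j) * gx (steps.bit i) := by
          rw [stElem, stElem, ← steps.val_succ gx hi h0, ← reading.val_nxt _ _ hq,
            steps.nxt_prv _ _ hj]
          exact e
        have h2 := ih _ (steps.parent_lt i hi h0) hp _ hq (by
          rw [← key_stElem hp, ← key_stElem hq, mul_right_cancel h1])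
        rw [← steps.nxt_prv (steps.bit i) i hi, h2, steps.nxt_prv (steps.bit i) j hj]
  have hbij : Function.Bijective f := by
    refine (Nat.bijective_iff_injective_and_card f).2 ⟨?_, ?_⟩
    · intro i j hij
      apply Fin.ext
      exact hinj i i.2 j j.2 (by
        rw [← key_stElem i.2, ← key_stElem j.2]
        exact congrArg keyG (congrArg Subtype.val hij))
    · rw [Nat.card_fin]
      exact hcx.symm
  obtain ⟨i, hi⟩ := hbij.2 ⟨g, Subgroup.mem_centralizer_iff.2 (by rintro _ rfl; exact hg)⟩
  exact ⟨i, i.2, congrArg Subtype.val hi⟩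

/-- The image of a point under a state, along its path. -/
noncomputable def stAct (fuel : Nat) : Nat → Nat → Nat :=
  Nat.rec (fun _ c => c) (fun _ ih i c =>
    Bool.rec (motive := fun _ => Nat)
      (force (ih (Bool.rec (motive := fun _ => Nat) (prevX i) (prevY i) (bitOf i)) c)
        (permOf (bitOf i))) c (Nat.beq i 0)) fuel

/-- The path of a state reaches the root. -/
noncomputable def reach (fuel : Nat) : Nat → Bool :=
  Nat.rec (fun i => Nat.beq i 0) (fun _ ih i =>
    Bool.rec (motive := fun _ => Bool)
      (force (Bool.rec (motive := fun _ => Nat) (prevX i) (prevY i) (bitOf i)) ih)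
      true (Nat.beq i 0)) fuel

theorem stAct_sound : ∀ fuel i, i < 21504 → reach fuel i = true → ∀ c : Fin 2058,
    stAct fuel i c = img (stElem i) c := by
  intro fuel
  induction fuel with
  | zero =>
    intro i hi hr c
    obtain rfl : i = 0 := Nat.eq_of_beq_eq_true hr
    rw [stElem, steps.val_zero]
    simp [stAct, img]
  | succ f ih =>
    intro i hi hr c
    rcases eq_or_ne i 0 with rfl | h0
    · rw [stElem, steps.val_zero]
      show (c : Nat) = img 1 c
      simp [img]
    · have hb : Nat.beq i 0 = false := eq_false_of_ne_true fun h => h0 (Nat.eq_of_beq_eq_true h)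
      have hpar : (Bool.rec (motive := fun _ => Nat) (prevX i) (prevY i) (bitOf i) : Nat) =
          steps.prv (steps.bit i) i := by
        show _ = cond (bitOf i) (prevY i) (prevX i)
        cases bitOf i <;> rfl
      have hr' : reach f (steps.prv (steps.bit i) i) = true := by
        have e : reach (f + 1) i = Bool.rec (motive := fun _ => Bool)
            (force (Bool.rec (motive := fun _ => Nat) (prevX i) (prevY i) (bitOf i)) (reach f))
            true (Nat.beq i 0) := rfl
        rw [e, hb] at hr
        simpa [force_eq, hpar] using hr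
      have e : stAct (f + 1) i c = Bool.rec (motive := fun _ => Nat)
          (force (stAct f (Bool.rec (motive := fun _ => Nat) (prevX i) (prevY i) (bitOf i)) c)
            (permOf (bitOf i))) c (Nat.beq i 0) := rfl
      rw [e, hb]
      simp only [force_eq, hpar]
      rw [ih _ (steps.prv_lt _ _ hi) hr' c]
      have hm : img (stElem i) c =
          img (gx (steps.bit i)) ((act (stElem (steps.prv (steps.bit i) i)))⁻¹ c) := by
        conv_lhs => rw [stElem, steps.val_succ gx hi h0]
        rw [img, img, map_mul, mul_inv_rev, Equiv.Perm.mul_apply]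
        rfl
      rw [hm, ← permOf_spec]
      rfl

end Cfsg.Agent.HeOut
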