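import Cfsg.Agent.HeOut.Act

/-!
The automorphism of the Held group exchanging `f` and `g`.
-/

namespace Cfsg.Agent.HeOut

open Cfsg.Agent.CosetCert Cfsg.Agent.HeFacts

/-- A generator. -/
noncomputable def gen (b : Cfsg.Spor.He.Gen) : Cfsg.Spor.He :=
  PresentedGroup.of (rels := Cfsg.Spor.coxRelators Cfsg.Spor.He.edges ∪ {r | r ∈ Cfsg.Spor.He.extra}) b

theorem elem_letter (b : Cfsg.Spor.He.Gen) : elem [HeSp44.enc b] = gen b := by
  cases b <;> rfl

theorem elem_sq {x : Nat} (hx : x < 7) : elem [x] * elem [x] = 1 := by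
  rw [← elem_append, ← elem_nil]
  exact elem_eq (by simp [hx]) (by simp)
    (by interval_cases x <;> decide +kernel)

theorem elem_inv {x : Nat} (hx : x < 7) : (elem [x])⁻¹ = elem [x] :=
  inv_eq_of_mul_eq_one_left (elem_sq hx)

/-- Exchanging the letters of `f` and `g`. -/
def sw : Nat → Nat
  | 5 => 6
  | 6 => 5
  | x => x

theorem sw_lt : ∀ x, x < 7 → sw x < 7 := by decide

theorem lift_mk (l : List (Cfsg.Spor.He.Gen × Bool)) :
    FreeGroup.lift (fun b => elem [sw (HeSp44.enc b)]) (FreeGroup.mk l) =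
      elem (l.map fun p => sw (HeSp44.enc p.1)) := by
  induction l with
  | nil => rw [List.map_nil, elem_nil, ← FreeGroup.one_eq_mk, map_one]
  | cons p t ih =>
    rw [show FreeGroup.mk (p :: t) = FreeGroup.mk [p] * FreeGroup.mk t by rw [FreeGroup.mul_mk]; rfl,
      map_mul, ih, List.map_cons]
    rw [show sw (HeSp44.enc p.1) :: t.map (fun p => sw (HeSp44.enc p.1)) =
      [sw (HeSp44.enc p.1)] ++ t.map (fun p => sw (HeSp44.enc p.1)) from rfl, elem_append]
    congr 1
    obtain ⟨b, s⟩ := p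
    cases s
    · rw [show FreeGroup.mk [(b, false)] = (FreeGroup.of b)⁻¹ from rfl, map_inv,
        FreeGroup.lift_apply_of]
      exact elem_inv (sw_lt _ (by cases b <;> decide))
    · rw [show FreeGroup.mk [(b, true)] = FreeGroup.of b from rfl, FreeGroup.lift_apply_of]

theorem tau_rels : ∀ r ∈ Cfsg.Spor.coxRelators Cfsg.Spor.He.edges ∪
    {r | r ∈ Cfsg.Spor.He.extra},
    FreeGroup.lift (fun b => elem [sw (HeSp44.enc b)]) r = 1 := by
  intro r hr
  have h1 := HeSp44.spells.rels_mem hr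
  have hle : Subgroup.normalClosure {r | r ∈ (coxWords HeSp44.genList Cfsg.Spor.He.edges
      Cfsg.Spor.He.extra).map FreeGroup.mk} ≤
      (FreeGroup.lift fun b => elem [sw (HeSp44.enc b)]).ker := by
    apply Subgroup.normalClosure_le_normal
    intro r hr
    obtain ⟨l, hl, rfl⟩ := List.mem_map.1 hr
    rw [SetLike.mem_coe, MonoidHom.mem_ker, lift_mk, ← elem_nil]
    have h : ((coxWords HeSp44.genList Cfsg.Spor.He.edges Cfsg.Spor.He.extra).all fun l =>
        Nat.beq (moveKey (HeSp44.data.fwd (l.map fun p => sw (HeSp44.enc p.1))) (keyOf 0))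
          (moveKey (HeSp44.data.fwd []) (keyOf 0))) = true := by decide +kernel
    refine elem_eq ?_ (by simp) (Nat.eq_of_beq_eq_true (List.all_eq_true.1 h l hl))
    intro x hx
    obtain ⟨p, -, rfl⟩ := List.mem_map.1 hx
    exact sw_lt _ (by cases p.1 <;> decide)
  exact MonoidHom.mem_ker.1 (hle h1)

/-- The homomorphism exchanging `f` and `g`. -/
noncomputable def tauHom : Cfsg.Spor.He →* Cfsg.Spor.He := PresentedGroup.toGroup tau_rels

theorem tauHom_gen (b : Cfsg.Spor.He.Gen) : tauHom (gen b) = elem [sw (HeSp44.enc b)] :=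
  PresentedGroup.toGroup.of tau_rels

theorem tauHom_tauHom : tauHom.comp tauHom = MonoidHom.id _ := by
  refine PresentedGroup.ext fun b => ?_
  show tauHom (tauHom (gen b)) = gen b
  have h : ∀ b, ∃ b', sw (HeSp44.enc b) = HeSp44.enc b' ∧ sw (HeSp44.enc b') = HeSp44.enc b := by
    intro b
    cases b
    exacts [⟨.a, rfl, rfl⟩, ⟨.b, rfl, rfl⟩, ⟨.c, rfl, rfl⟩, ⟨.d, rfl, rfl⟩, ⟨.e, rfl, rfl⟩,
      ⟨.g, rfl, rfl⟩, ⟨.f, rfl, rfl⟩]
  obtain ⟨b', h1, h2⟩ := h b
  rw [tauHom_gen, h1, elem_letter, tauHom_gen, h2, elem_letter]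

/-- The automorphism exchanging `f` and `g`. -/
noncomputable def tau : MulAut Cfsg.Spor.He :=
  MonoidHom.toMulEquiv tauHom tauHom tauHom_tauHom tauHom_tauHom

theorem tau_gen (b : Cfsg.Spor.He.Gen) : tau (gen b) = elem [sw (HeSp44.enc b)] := tauHom_gen b

end Cfsg.Agent.HeOut
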