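import Cfsg.Agent.HeOut.OutChecks
import Cfsg.Agent.HeOut.Tau

/-!
Products of states on keys, and the two classes of involutions of the Held group.
-/

namespace Cfsg.Agent.HeOut

open Cfsg.Agent.CosetCert Cfsg.Agent.HeFacts

theorem reach_ok (i : Nat) (hi : i < 21504) : reach 32 i = true := by
  have h := invc_ok i hi
  simp only [checkInv, gate_eq, Bool.and_eq_true] at h
  exact h.1

theorem stA_spec {i : Nat} (hi : i < 21504) (c : Fin 2058) : stA i c = img (stElem i) c :=
  stAct_sound 32 i hi (reach_ok i hi) c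

theorem keyG_mul_st (g : Cfsg.Spor.He) {i : Nat} (hi : i < 21504) :
    keyG (g * stElem i) = moveKey (stA i) (keyG g) := keyG_mul g _ _ (stA_spec hi)

theorem kMul_spec {i j : Nat} (hi : i < 21504) (hj : j < 21504) :
    kMul i j = keyG (stElem i * stElem j) := by
  rw [keyG_mul_st _ hj, key_stElem hi, kMul, force_eq]

theorem kW_spec {w : List Nat} (hw : ∀ x ∈ w, x < 7) : kW w = keyG (elem w) :=
  (keyG_elem w hw).symm

theorem kOne_spec : kOne = keyG 1 := keyG_one.symm

theorem kProd_spec (g : Cfsg.Spor.He) : ∀ l : List Nat, (∀ i ∈ l, i < 21504) →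
    kProd l (keyG g) = keyG (g * (l.map stElem).prod) := by
  intro l
  induction l generalizing g with
  | nil => intro _; simp [kProd]
  | cons i t ih =>
    intro hl
    have e : kProd (i :: t) (keyG g) = force (moveKey (stA i) (keyG g)) (kProd t) := rfl
    rw [e, force_eq, ← keyG_mul_st _ (hl i (List.mem_cons_self ..)),
      ih _ fun j hj => hl j (List.mem_cons_of_mem _ hj), List.map_cons, List.prod_cons, mul_assoc]

theorem kProd_one {l : List Nat} (hl : ∀ i ∈ l, i < 21504) :
    kProd l kOne = keyG (l.map stElem).prod := by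
  rw [kOne_spec, kProd_spec 1 l hl, one_mul]

theorem elem_ne_one {w : List Nat} (hw : ∀ x ∈ w, x < 7) (h : Nat.beq (kW w) kOne = false) :
    elem w ≠ 1 := fun he => by
  rw [kW_spec hw, he, ← kOne_spec] at h
  simp at h

/-- Some element of order five commutes with `x`. -/
def HasFive (x : Cfsg.Spor.He) : Prop := ∃ u : Cfsg.Spor.He, orderOf u = 5 ∧ x * u = u * x

theorem HasFive.map {x : Cfsg.Spor.He} (h : HasFive x) (f : MulAut Cfsg.Spor.He) :
    HasFive (f x) := by
  obtain ⟨u, hu, hc⟩ := h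
  exact ⟨f u, by rw [MulEquiv.orderOf_eq, hu], by rw [← map_mul, ← map_mul, hc]⟩

theorem HasFive.conj {x y : Cfsg.Spor.He} (h : HasFive x) (hxy : IsConj x y) : HasFive y := by
  obtain ⟨c, rfl⟩ := isConj_iff.1 hxy
  exact h.map (MulAut.conj c)

theorem hasFive_a : HasFive (elem [0]) := by
  have := Fact.mk (show Nat.Prime 5 by norm_num)
  refine ⟨elem [2, 3, 2, 3], orderOf_eq_prime ?_ (elem_ne_one (by decide) (by decide +kernel)), ?_⟩
  · rw [pow_succ, pow_succ, pow_succ, pow_succ, pow_succ, pow_zero, one_mul, ← elem_append,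
      ← elem_append, ← elem_append, ← elem_append, ← elem_nil]
    exact elem_eq (by decide) (by decide) (by decide +kernel)
  · rw [← elem_append, ← elem_append]
    exact elem_eq (by decide) (by decide) (by decide +kernel)

theorem not_hasFive_e : ¬ HasFive (elem [4]) := by
  rintro ⟨u, hu, hc⟩
  have hmem : u ∈ Subgroup.centralizer {elem [4]} :=
    Subgroup.mem_centralizer_iff.2 (by rintro _ rfl; exact hc)
  have h := Subgroup.orderOf_dvd_natCard _ hmem
  rw [hu, card_cent] at h
  norm_num at h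

theorem repOf_spec {r : Nat} (hr : r < 8) :
    (repOf r).1 < 21504 ∧ ((repOf r).2.2 = 0 ∨ (repOf r).2.2 = 4) ∧
      IsConj (stElem (repOf r).1) (elem [(repOf r).2.2]) := by
  have h := repc_ok r hr
  simp only [checkRep, force_eq, gate_eq, Bool.and_eq_true, Bool.or_eq_true] at h
  obtain ⟨h1, h2, h3, h4⟩ := h
  have hi := blt_lt h1
  have hw : ∀ x ∈ (repOf r).2.1, x < 7 := fun x hx => blt_lt (List.all_eq_true.1 h2 x hx)
  have ht : (repOf r).2.2 = 0 ∨ (repOf r).2.2 = 4 :=
    h3.imp Nat.eq_of_beq_eq_true Nat.eq_of_beq_eq_true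
  have hw' : ∀ x ∈ (repOf r).2.1 ++ [(repOf r).2.2], x < 7 := by
    intro x hx
    rcases List.mem_append.1 hx with hx | hx
    · exact hw x hx
    · rw [List.mem_singleton.1 hx]; omega
  have he : stElem (repOf r).1 * elem (repOf r).2.1 =
      elem ((repOf r).2.1 ++ [(repOf r).2.2]) := by
    apply keyG_inj
    rw [keyG_mul_elem _ _ hw, key_stElem hi, ← kW_spec hw']
    exact Nat.eq_of_beq_eq_true h4
  refine ⟨hi, ht, isConj_iff.2 ⟨(elem (repOf r).2.1)⁻¹, ?_⟩⟩
  rw [elem_append] at he
  rw [inv_inv, mul_assoc, he, inv_mul_cancel_left]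

/-- A listed involution. -/
theorem inv_listed {x : Cfsg.Spor.He} (hx : x * x = 1) (h1 : x ≠ 1)
    (hc : elem [4] * x = x * elem [4]) :
    ∃ j, j < 575 ∧ invAt j < 21504 ∧ stElem (invAt j) = x := by
  obtain ⟨i, hi, rfl⟩ := exists_state hc
  have h := invc_ok i hi
  simp only [checkInv, gate_eq, force_eq, Bool.and_eq_true] at h
  have h0 : Nat.beq i 0 = false := eq_false_of_ne_true fun h0 => h1 (by
    rw [Nat.eq_of_beq_eq_true h0, stElem, steps.val_zero])
  have hk : kMul i i = kOne := by rw [kMul_spec hi hi, hx, kOne_spec]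
  have hsq : sqOne i = true := by
    simp only [sqOne, gate_eq, force_eq, Bool.and_eq_true]
    have hb : Nat.beq (kMul i i) kOne = true := by rw [hk]; exact Nat.beq_refl _
    refine ⟨?_, hb⟩
    have e : keyOf i = keyG (stElem i) := (key_stElem hi).symm
    have hmod : Nat.mod (keyOf i) 4096 = img (stElem i) ⟨0, by norm_num⟩ := by
      have h4 := img_lt (stElem i) ⟨0, by norm_num⟩
      rw [e, keyG]
      show (_ + _) % 4096 = _
      omega
    rw [hmod]
    have e2 : stA i (img (stElem i) ⟨0, by norm_num⟩) = 0 := by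
      show stA i (((act (stElem i))⁻¹ ⟨0, by norm_num⟩ : Fin 2058) : Nat) = 0
      rw [stA_spec hi, img, ← Equiv.Perm.mul_apply, ← mul_inv_rev, ← map_mul, hx, map_one]
      simp
    rw [e2]
    rfl
  rw [h0, hsq] at h
  simp only [Bool.and_eq_true] at h
  refine ⟨_, blt_lt h.2.1, ?_, ?_⟩
  · rw [Nat.eq_of_beq_eq_true h.2.2]; exact hi
  · rw [Nat.eq_of_beq_eq_true h.2.2]

theorem type_spec {j : Nat} (hj : j < 575) :
    ∃ s r, s < 21504 ∧ r < 8 ∧ invAt j < 21504 ∧
      Nat.div (get48 typeStore j) 32768 = r ∧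
      stElem (invAt j) * stElem s = stElem s * stElem (repOf r).1 := by
  have h := typec_ok j hj
  simp only [checkType, force_eq, gate_eq, Bool.and_eq_true] at h
  obtain ⟨h1, h2, h3, h4⟩ := h
  refine ⟨_, _, blt_lt h2, blt_lt h3, blt_lt h1, rfl, keyG_inj ?_⟩
  rw [← kMul_spec (blt_lt h1) (blt_lt h2), ← kMul_spec (blt_lt h2) (repOf_spec (blt_lt h3)).1]
  exact Nat.eq_of_beq_eq_true h4

theorem typeA_spec {j : Nat} (hj : j < 575) :
    typeA j = true ↔ HasFive (stElem (invAt j)) := by
  obtain ⟨s, r, hs, hr, hi, hdiv, he⟩ := type_spec hj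
  obtain ⟨-, ht, hconj⟩ := repOf_spec hr
  have hc : IsConj (stElem (invAt j)) (elem [(repOf r).2.2]) := by
    refine IsConj.trans (isConj_iff.2 ⟨(stElem s)⁻¹, ?_⟩) hconj
    rw [inv_inv, mul_assoc, he, inv_mul_cancel_left]
  rw [typeA, hdiv]
  rcases ht with ht | ht <;> rw [ht] at hc ⊢
  · exact iff_of_true rfl (hasFive_a.conj hc.symm)
  · exact iff_of_false (by decide) fun h => not_hasFive_e (h.conj hc)

/-- Every involution is conjugate to `a` or to `e`. -/
theorem involution_conj {x : Cfsg.Spor.He} (hx : x * x = 1) (h1 : x ≠ 1) :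
    IsConj x (elem [0]) ∨ IsConj x (elem [4]) := by
  classical
  have := finite_he
  have := Fact.mk Nat.prime_two
  let C : Subgroup Cfsg.Spor.He := Subgroup.centralizer {elem [4]}
  obtain ⟨P⟩ : Nonempty (Sylow 2 C) := inferInstance
  have hN : (Nat.card Cfsg.Spor.He).factorization 2 = 10 := by
    rw [card_he, show (4030387200 : ℕ) = 2 ^ 10 * 3935925 by norm_num,
      Nat.factorization_mul (by norm_num) (by norm_num), Finsupp.add_apply,
      Nat.Prime.factorization_pow Nat.prime_two, Finsupp.single_eq_same,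
      Nat.factorization_eq_zero_of_not_dvd (by norm_num)]
  have hC : (Nat.card C).factorization 2 = 10 := by
    rw [card_cent, show (21504 : ℕ) = 2 ^ 10 * 21 by norm_num,
      Nat.factorization_mul (by norm_num) (by norm_num), Finsupp.add_apply,
      Nat.Prime.factorization_pow Nat.prime_two, Finsupp.single_eq_same,
      Nat.factorization_eq_zero_of_not_dvd (by norm_num)]
  let Q : Sylow 2 Cfsg.Spor.He := Sylow.ofCard ((P : Subgroup C).map C.subtype) (by
    rw [Subgroup.card_map_of_injective C.subtype_injective, P.card_eq_multiplicity, hC, hN])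
  have hord : orderOf x = 2 := orderOf_eq_prime (by rw [sq, hx]) h1
  have hp : IsPGroup 2 (Subgroup.zpowers x) :=
    IsPGroup.of_card (n := 1) (by rw [Nat.card_zpowers, hord, pow_one])
  obtain ⟨P', hP'⟩ := hp.exists_le_sylow
  obtain ⟨g, hg⟩ := MulAction.exists_smul_eq Cfsg.Spor.He P' Q
  have hmem : g * x * g⁻¹ ∈ C := by
    have h2 : g * x * g⁻¹ ∈ (Q : Subgroup Cfsg.Spor.He) := by
      rw [← hg, Sylow.coe_subgroup_smul]
      exact Subgroup.smul_mem_pointwise_smul _ (MulAut.conj g) _ (hP' (Subgroup.mem_zpowers x))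
    obtain ⟨y, -, hy⟩ := Subgroup.mem_map.1 (show g * x * g⁻¹ ∈ (P : Subgroup C).map C.subtype from h2)
    rw [← hy]; exact y.2
  have hcy : elem [4] * (g * x * g⁻¹) = g * x * g⁻¹ * elem [4] :=
    Subgroup.mem_centralizer_iff.1 hmem _ rfl
  obtain ⟨j, hj, -, hjx⟩ := inv_listed (x := g * x * g⁻¹)
    (by rw [show g * x * g⁻¹ * (g * x * g⁻¹) = g * (x * x) * g⁻¹ by group, hx]; group)
    (fun h => h1 (by simpa using h)) hcy
  obtain ⟨s, r, -, hr, -, -, he⟩ := type_spec hj
  obtain ⟨-, ht, hconj⟩ := repOf_spec hr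
  have hc : IsConj x (elem [(repOf r).2.2]) := by
    refine IsConj.trans (isConj_iff.2 ⟨(stElem s)⁻¹ * g, ?_⟩) hconj
    rw [show (stElem s)⁻¹ * g * x * ((stElem s)⁻¹ * g)⁻¹ =
      (stElem s)⁻¹ * (g * x * g⁻¹ * stElem s) by group, ← hjx, he, inv_mul_cancel_left]
  rcases ht with ht | ht <;> rw [ht] at hc
  exacts [Or.inl hc, Or.inr hc]

theorem letter_conj : IsConj (elem [1]) (elem [0]) ∧ IsConj (elem [2]) (elem [0]) ∧
    IsConj (elem [5]) (elem [4]) ∧ IsConj (elem [6]) (elem [4]) := by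
  have h : ∀ d ∈ letterData, d.1 < 7 → d.2.2 < 7 → IsConj (elem [d.1]) (elem [d.2.2]) := by
    intro d hd h1 h2
    have hd' := List.all_eq_true.1 letterc_ok d hd
    simp only [checkLetter, gate_eq, Bool.and_eq_true] at hd'
    have hw : ∀ x ∈ d.2.1, x < 7 := fun x hx => blt_lt (List.all_eq_true.1 hd'.1 x hx)
    have he : elem (d.1 :: d.2.1) = elem (d.2.1 ++ [d.2.2]) := by
      refine elem_eq ?_ ?_ (Nat.eq_of_beq_eq_true hd'.2)
      · intro x hx; rcases List.mem_cons.1 hx with rfl | hx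
        exacts [h1, hw x hx]
      · intro x hx
        rcases List.mem_append.1 hx with hx | hx
        exacts [hw x hx, (List.mem_singleton.1 hx) ▸ h2]
    rw [show d.1 :: d.2.1 = [d.1] ++ d.2.1 from rfl, elem_append, elem_append] at he
    refine isConj_iff.2 ⟨(elem d.2.1)⁻¹, ?_⟩
    rw [inv_inv, mul_assoc, he, inv_mul_cancel_left]
  exact ⟨h _ (List.mem_cons_self ..) (by decide) (by decide),
    h _ (List.mem_cons_of_mem _ (List.mem_cons_self ..)) (by decide) (by decide),
    h _ (List.mem_cons_of_mem _ (List.mem_cons_of_mem _ (List.mem_cons_self ..))) (by decide)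
      (by decide),
    h _ (List.mem_cons_of_mem _ (List.mem_cons_of_mem _ (List.mem_cons_of_mem _
      (List.mem_cons_self ..)))) (by decide) (by decide)⟩

end Cfsg.Agent.HeOut
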