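import Cfsg.Agent.HeOut.OutDefs

/-! Generated: the checks on the tables for the automorphisms. -/

set_option Elab.async false

namespace Cfsg.Agent.HeOut

open Cfsg.Agent.CosetCert Cfsg.Agent.HeFacts

theorem listBC0_0_ok : listBC0_0.all (checkQuad imA0 listFG0) = true := by decide +kernel

theorem listBC0_32_ok : listBC0_32.all (checkQuad imA0 listFG0) = true := by decide +kernel

theorem quad0c_ok : listBC0.all (checkQuad imA0 listFG0) = true := by
  simp only [listBC0, List.all_append, listBC0_0_ok, listBC0_32_ok, Bool.and_self]

theorem listBC1_0_ok : listBC1_0.all (checkQuad imA1 listFG1) = true := by decide +kernel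

theorem listBC1_32_ok : listBC1_32.all (checkQuad imA1 listFG1) = true := by decide +kernel

theorem listBC1_64_ok : listBC1_64.all (checkQuad imA1 listFG1) = true := by decide +kernel

theorem listBC1_96_ok : listBC1_96.all (checkQuad imA1 listFG1) = true := by decide +kernel

theorem quad1c_ok : listBC1.all (checkQuad imA1 listFG1) = true := by
  simp only [listBC1, List.all_append, listBC1_0_ok, listBC1_32_ok, listBC1_64_ok, listBC1_96_ok, Bool.and_self]

end Cfsg.Agent.HeOut
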