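import Cfsg.Agent.HeOut.OutDefs

/-! Generated: the checks on the tables for the automorphisms. -/

set_option Elab.async false

namespace Cfsg.Agent.HeOut

open Cfsg.Agent.CosetCert Cfsg.Agent.HeFacts

theorem search_ok : HeSp44.data.searchB [[0], [1]] 64 testD abLevels [] = true := by decide +kernel

theorem notInnercAt0 : allFrom (checkNotInner) 0 2500 = true := by decide +kernel

theorem notInnercAt2500 : allFrom (checkNotInner) 2500 2500 = true := by decide +kernel

theorem notInnercAt5000 : allFrom (checkNotInner) 5000 2500 = true := by decide +kernel

theorem notInnercAt7500 : allFrom (checkNotInner) 7500 2500 = true := by decide +kernel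

theorem notInnercAt10000 : allFrom (checkNotInner) 10000 2500 = true := by decide +kernel

theorem notInnercAt12500 : allFrom (checkNotInner) 12500 2500 = true := by decide +kernel

theorem notInnercAt15000 : allFrom (checkNotInner) 15000 2500 = true := by decide +kernel

theorem notInnercAt17500 : allFrom (checkNotInner) 17500 2500 = true := by decide +kernel

theorem notInnercAt20000 : allFrom (checkNotInner) 20000 1504 = true := by decide +kernel

theorem notInnerc_ok : ∀ j, j < 21504 → (checkNotInner) j = true := by
  have h0 : ∀ j, j < 0 → (checkNotInner) j = true := forall_lt_zero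
  have h1 := forall_lt_step (b := 2500) h0 notInnercAt0 rfl
  have h2 := forall_lt_step (b := 5000) h1 notInnercAt2500 rfl
  have h3 := forall_lt_step (b := 7500) h2 notInnercAt5000 rfl
  have h4 := forall_lt_step (b := 10000) h3 notInnercAt7500 rfl
  have h5 := forall_lt_step (b := 12500) h4 notInnercAt10000 rfl
  have h6 := forall_lt_step (b := 15000) h5 notInnercAt12500 rfl
  have h7 := forall_lt_step (b := 17500) h6 notInnercAt15000 rfl
  have h8 := forall_lt_step (b := 20000) h7 notInnercAt17500 rfl
  have h9 := forall_lt_step (b := 21504) h8 notInnercAt20000 rfl
  exact h9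

end Cfsg.Agent.HeOut
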