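import Cfsg.Prelude.Def_KGroupFacts
import Cfsg.Agent.HeOut.Classes
import Cfsg.Agent.HeOut.OutQuads
import Cfsg.Agent.HeOut.OutSearch

/-!
The outer automorphism group of the Held group has order two.
-/

set_option maxHeartbeats 1000000

namespace Cfsg.Agent.HeOut

open Cfsg.Agent.CosetCert Cfsg.Agent.HeFacts

theorem member_mem {x : Nat} : ∀ {l : List Nat}, member x l = true → x ∈ l := by
  intro l
  induction l with
  | nil => intro h; simp [member] at h
  | cons y t ih =>
    intro h
    have e : member x (y :: t) =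
        Bool.rec (motive := fun _ => Bool) (member x t) true (Nat.beq x y) := rfl
    rw [e] at h
    cases hb : Nat.beq x y <;> rw [hb] at h
    · exact List.mem_cons_of_mem _ (ih h)
    · rw [Nat.eq_of_beq_eq_true hb]; exact List.mem_cons_self ..

theorem aut_ext {φ ψ : MulAut Cfsg.Spor.He}
    (h : ∀ b : Cfsg.Spor.He.Gen, φ (elem [HeSp44.enc b]) = ψ (elem [HeSp44.enc b])) : φ = ψ := by
  refine MulEquiv.toMonoidHom_injective (PresentedGroup.ext fun b => ?_)
  have := h b
  rw [elem_letter] at this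
  exact this

theorem elem_rel {u v : List Nat} (hu : ∀ x ∈ u, x < 7) (hv : ∀ x ∈ v, x < 7)
    (h : Nat.beq (kW u) (kW v) = true) : elem u = elem v :=
  keyG_inj (by rw [← kW_spec hu, ← kW_spec hv]; exact Nat.eq_of_beq_eq_true h)

theorem aut_rel {φ : MulAut Cfsg.Spor.He} : ∀ (l : List Nat),
    φ (elem l) = (l.map fun x => φ (elem [x])).prod := by
  intro l
  induction l with
  | nil => rw [elem_nil, map_one]; rfl
  | cons x t ih =>
    rw [show x :: t = [x] ++ t from rfl, elem_append, map_mul, ih]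
    simp

theorem com_iff {i j : Nat} (hi : i < 21504) (hj : j < 21504) :
    com i j = true ↔ stElem i * stElem j = stElem j * stElem i := by
  rw [com, kMul_spec hi hj, kMul_spec hj hi]
  exact ⟨fun h => keyG_inj (Nat.eq_of_beq_eq_true h), fun h => by rw [h]; exact Nat.beq_refl _⟩

theorem move_eq {i s x : Nat} (hi : i < 21504) (hs : s < 21504) (hx : x < 7)
    (h : Nat.beq (kMul i s) (moveKey (HeSp44.data.fwd [x]) (keyOf s)) = true) :
    (stElem s)⁻¹ * stElem i * stElem s = elem [x] := by
  have he : stElem i * stElem s = stElem s * elem [x] := by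
    apply keyG_inj
    rw [← kMul_spec hi hs, keyG_mul_elem _ _ (by simp [hx]), key_stElem hs]
    exact Nat.eq_of_beq_eq_true h
  rw [mul_assoc, he, inv_mul_cancel_left]

/-- The images of `b`, `c`, `f`, `g`, when those of `a` and `e` are given. -/
theorem quad_solution {r : Nat} {lC lB lF : List Nat} {lFG : List (Nat × Nat)}
    {lBC : List ((Nat × Nat) × List (Nat × Nat × Nat × Nat))} (hr : r < 21504)
    (hC : ∀ j, j < 575 → checkC r lC j = true) (hB : ∀ j, j < 575 → checkB r lB j = true)
    (hF : ∀ j, j < 575 → checkF r lF j = true) (hFG : checkFG lF lFG = true)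
    (hBC : checkBC r lC lB lBC = true) (hQ : lBC.all (checkQuad r lFG) = true)
    (ψ : MulAut Cfsg.Spor.He) (he : ψ (elem [4]) = elem [4]) (ha : ψ (elem [0]) = stElem r) :
    ∃ e ∈ lBC, ∃ q ∈ e.2, checkSol r e.1.1 e.1.2 q = true ∧ e.1.1 < 21504 ∧ e.1.2 < 21504 ∧
      q.1 < 21504 ∧ q.2.1 < 21504 ∧
      stElem e.1.1 = ψ (elem [1]) ∧ stElem e.1.2 = ψ (elem [2]) ∧
      stElem q.1 = ψ (elem [5]) ∧ stElem q.2.1 = ψ (elem [6]) := by
  -- a generator commuting with `e` goes to a listed involution
  have hst : ∀ x, x < 7 → Nat.beq (kW [4, x]) (kW [x, 4]) = true →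
      Nat.beq (kW [x]) kOne = false →
      ∃ j, j < 575 ∧ invAt j < 21504 ∧ stElem (invAt j) = ψ (elem [x]) := by
    intro x hx hc hne
    refine inv_listed ?_ ?_ ?_
    · rw [← map_mul, elem_sq hx, map_one]
    · intro h1
      have := elem_ne_one (w := [x]) (by simp [hx]) hne
      exact this (ψ.injective (h1.trans (map_one ψ).symm))
    · rw [← he, ← map_mul, ← map_mul, ← elem_append, ← elem_append]
      exact congrArg ψ (elem_rel (by simp [hx]) (by simp [hx]) hc)
  obtain ⟨jb, hjb, hkb, eb⟩ := hst 1 (by norm_num) (by decide +kernel) (by decide +kernel)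
  obtain ⟨jc, hjc, hkc, ec⟩ := hst 2 (by norm_num) (by decide +kernel) (by decide +kernel)
  obtain ⟨jf, hjf, hkf, ef⟩ := hst 5 (by norm_num) (by decide +kernel) (by decide +kernel)
  obtain ⟨jg, hjg, hkg, eg⟩ := hst 6 (by norm_num) (by decide +kernel) (by decide +kernel)
  have five : ∀ j, j < 575 → ∀ x, stElem (invAt j) = ψ (elem [x]) →
      (typeA j = true ↔ HasFive (elem [x])) := by
    intro j hj x hx
    rw [typeA_spec hj, hx]
    refine ⟨fun h => ?_, fun h => h.map ψ⟩
    have := h.map ψ.symm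
    rwa [MulEquiv.symm_apply_apply] at this
  obtain ⟨cb, cc, cf, cg⟩ := letter_conj
  have tb : typeA jb = true := (five jb hjb 1 eb).2 (hasFive_a.conj cb.symm)
  have tc : typeA jc = true := (five jc hjc 2 ec).2 (hasFive_a.conj cc.symm)
  have tf : typeA jf = false := eq_false_of_ne_true fun h =>
    not_hasFive_e (((five jf hjf 5 ef).1 h).conj cf)
  have tg : typeA jg = false := eq_false_of_ne_true fun h =>
    not_hasFive_e (((five jg hjg 6 eg).1 h).conj cg)
  -- relations carried over
  have rel : ∀ u v : List Nat, (∀ x ∈ u, x < 7) → (∀ x ∈ v, x < 7) →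
      Nat.beq (kW u) (kW v) = true →
      (u.map fun x => ψ (elem [x])).prod = (v.map fun x => ψ (elem [x])).prod := by
    intro u v hu hv h
    rw [← aut_rel, ← aut_rel, elem_rel hu hv h]
  have comm : ∀ i j x y, i < 21504 → j < 21504 → stElem i = ψ (elem [x]) →
      stElem j = ψ (elem [y]) → x < 7 → y < 7 → Nat.beq (kW [x, y]) (kW [y, x]) = true →
      com i j = true := by
    intro i j x y hi hj hx hy hxl hyl h
    rw [com_iff hi hj, hx, hy, ← map_mul, ← map_mul, ← elem_append, ← elem_append]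
    exact congrArg ψ (elem_rel (by simp [hxl, hyl]) (by simp [hxl, hyl]) h)
  -- the lists
  have mC : invAt jc ∈ lC := by
    have h := hC jc hjc
    simp only [checkC, force_eq] at h
    rw [tc, comm r _ 0 2 hr hkc ha.symm ec (by norm_num) (by norm_num) (by decide +kernel)] at h
    exact member_mem (by simpa using h)
  have mB : invAt jb ∈ lB := by
    have h := hB jb hjb
    simp only [checkB, force_eq] at h
    have hp : Nat.beq (kProd [r, invAt jb, r, invAt jb, r, invAt jb, r, invAt jb] kOne) kOne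
        = true := by
      rw [kProd_one (by simp [hr, hkb]), kOne_spec]
      have e := rel [0, 1, 0, 1, 0, 1, 0, 1] [] (by decide) (by decide) (by decide +kernel)
      simp only [List.map_cons, List.map_nil, ha, ← eb] at e
      simp only [List.map_cons, List.map_nil]
      rw [e]
      exact Nat.beq_refl _
    rw [tb, hp] at h
    exact member_mem (by simpa using h)
  have mF : ∀ j x, j < 575 → invAt j < 21504 → stElem (invAt j) = ψ (elem [x]) → x < 7 →
      Nat.beq (kW [0, x]) (kW [x, 0]) = true → typeA j = false → invAt j ∈ lF := by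
    intro j x hj hk hx hxl h0 ht
    have h := hF j hj
    simp only [checkF, force_eq] at h
    rw [ht, comm r _ 0 x hr hk ha.symm hx (by norm_num) hxl h0] at h
    exact member_mem (by simpa using h)
  have mf := mF jf 5 hjf hkf ef (by norm_num) (by decide +kernel) tf
  have mg := mF jg 6 hjg hkg eg (by norm_num) (by decide +kernel) tg
  -- the pairs
  have hfg : ∃ p ∈ lFG, p.1 = invAt jf ∧ p.2 = invAt jg := by
    have h := List.all_eq_true.1 (List.all_eq_true.1 hFG _ mf) _ mg
    have hp : Nat.beq (kProd [invAt jf, invAt jg, invAt jf, invAt jg] kOne) (kW [4]) = true := by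
      rw [kProd_one (by simp [hkf, hkg]), kW_spec (by decide)]
      have e := rel [5, 6, 5, 6] [4] (by decide) (by decide) (by decide +kernel)
      simp only [List.map_cons, List.map_nil, ← ef, ← eg, he] at e
      simp only [List.map_cons, List.map_nil]
      rw [e]
      simp
    rw [hp] at h
    obtain ⟨p, hp1, hp2⟩ := List.any_eq_true.1 (by simpa only [Bool.and_self, Bool.not_true, Bool.false_or] using h)
    rw [Bool.and_eq_true] at hp2
    exact ⟨p, hp1, Nat.eq_of_beq_eq_true hp2.1, Nat.eq_of_beq_eq_true hp2.2⟩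
  obtain ⟨p, hp, hp1, hp2⟩ := hfg
  have hbc : ∃ e ∈ lBC, e.1.1 = invAt jb ∧ e.1.2 = invAt jc := by
    have h := List.all_eq_true.1 (List.all_eq_true.1 hBC _ mC) _ mB
    have h1 : Nat.beq (kProd [invAt jb, invAt jc, invAt jb, invAt jc, invAt jb, invAt jc] kOne)
        kOne = true := by
      rw [kProd_one (by simp [hkb, hkc]), kOne_spec]
      have e := rel [1, 2, 1, 2, 1, 2] [] (by decide) (by decide) (by decide +kernel)
      simp only [List.map_cons, List.map_nil, ← eb, ← ec] at e
      simp only [List.map_cons, List.map_nil]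
      rw [e]
      exact Nat.beq_refl _
    have h2 : Nat.beq (kProd [r, invAt jb, invAt jc, r, invAt jb, invAt jc, r, invAt jb, invAt jc]
        kOne) (kW [4]) = true := by
      rw [kProd_one (by simp [hr, hkb, hkc]), kW_spec (by decide)]
      have e := rel [0, 1, 2, 0, 1, 2, 0, 1, 2] [4] (by decide) (by decide) (by decide +kernel)
      simp only [List.map_cons, List.map_nil, ← eb, ← ec, ha, he] at e
      simp only [List.map_cons, List.map_nil]
      rw [e]
      simp
    rw [h1, h2] at h
    obtain ⟨p, hp1, hp2⟩ := List.any_eq_true.1 (by simpa only [Bool.and_self, Bool.not_true, Bool.false_or] using h)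
    rw [Bool.and_eq_true] at hp2
    exact ⟨p, hp1, Nat.eq_of_beq_eq_true hp2.1, Nat.eq_of_beq_eq_true hp2.2⟩
  obtain ⟨e, hel, he1, he2⟩ := hbc
  have h := List.all_eq_true.1 hQ e hel
  simp only [checkQuad, Bool.and_eq_true] at h
  obtain ⟨hsol, hall⟩ := h
  have h2 := List.all_eq_true.1 hall p hp
  rw [he1, he2, hp1, hp2,
    comm _ _ 1 5 hkb hkf eb ef (by norm_num) (by norm_num) (by decide +kernel),
    comm _ _ 1 6 hkb hkg eb eg (by norm_num) (by norm_num) (by decide +kernel),
    comm _ _ 2 5 hkc hkf ec ef (by norm_num) (by norm_num) (by decide +kernel),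
    comm _ _ 2 6 hkc hkg ec eg (by norm_num) (by norm_num) (by decide +kernel)] at h2
  obtain ⟨q, hq, hq'⟩ := List.any_eq_true.1 (by simpa only [Bool.and_self, Bool.not_true, Bool.false_or] using h2)
  rw [Bool.and_eq_true] at hq'
  have hq1 : q.1 = invAt jf := Nat.eq_of_beq_eq_true hq'.1
  have hq2 : q.2.1 = invAt jg := Nat.eq_of_beq_eq_true hq'.2
  refine ⟨e, hel, q, hq, List.all_eq_true.1 hsol q hq, ?_, ?_, ?_, ?_, ?_, ?_, ?_, ?_⟩
  · rw [he1]; exact hkb
  · rw [he2]; exact hkc
  · rw [hq1]; exact hkf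
  · rw [hq2]; exact hkg
  · rw [he1]; exact eb
  · rw [he2]; exact ec
  · rw [hq1]; exact ef
  · rw [hq2]; exact eg

theorem imA_data : imA0 < 21504 ∧ imA1 < 21504 ∧ Nat.beq (keyOf imA0) (kW [0]) = true ∧
    (∀ r, r < 8 → (repOf r).2.2 = 0 → (repOf r).1 = imA0 ∨ (repOf r).1 = imA1) ∧
    listBC1.all (fun e => e.2.isEmpty) = true := by
  refine ⟨by decide +kernel, by decide +kernel, by decide +kernel, by decide +kernel,
    by decide +kernel⟩

/-- Up to conjugation, an automorphism fixes `a`, `b`, `c`, `e` and fixes or exchanges `f`, `g`. -/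
theorem normal_form (φ : MulAut Cfsg.Spor.He) :
    ∃ h : Cfsg.Spor.He, ∀ ψ, ψ = MulAut.conj h * φ →
      ψ (elem [0]) = elem [0] ∧ ψ (elem [1]) = elem [1] ∧ ψ (elem [2]) = elem [2] ∧
        ψ (elem [4]) = elem [4] ∧
        ((ψ (elem [5]) = elem [5] ∧ ψ (elem [6]) = elem [6]) ∨
          (ψ (elem [5]) = elem [6] ∧ ψ (elem [6]) = elem [5])) := by
  classical
  -- `e`
  have hne : φ (elem [4]) ≠ 1 := fun h =>
    elem_ne_one (w := [4]) (by decide) (by decide +kernel) (φ.injective (h.trans (map_one φ).symm))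
  have hce : IsConj (φ (elem [4])) (elem [4]) := by
    refine (involution_conj (by rw [← map_mul, elem_sq (by norm_num), map_one]) hne).resolve_left
      fun h => ?_
    apply not_hasFive_e
    have := (hasFive_a.conj h.symm).map φ.symm
    rwa [MulEquiv.symm_apply_apply] at this
  obtain ⟨g, hg⟩ := isConj_iff.1 hce
  set ψ₁ := MulAut.conj g * φ with hψ₁
  have he1 : ψ₁ (elem [4]) = elem [4] := hg
  -- `a`
  obtain ⟨j, hj, hk, hja⟩ := inv_listed (x := ψ₁ (elem [0]))
    (by rw [← map_mul, elem_sq (by norm_num), map_one])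
    (fun h => elem_ne_one (w := [0]) (by decide) (by decide +kernel)
      (ψ₁.injective (h.trans (map_one ψ₁).symm)))
    (by
      conv_lhs => rw [← he1]
      conv_rhs => rw [← he1]
      rw [← map_mul, ← map_mul, ← elem_append, ← elem_append]
      exact congrArg ψ₁ (elem_rel (by decide) (by decide) (by decide +kernel)))
  obtain ⟨s, r, hs, hr, -, hdiv, hse⟩ := type_spec hj
  have htA : typeA j = true := (typeA_spec hj).2 (by rw [hja]; exact hasFive_a.map ψ₁)
  have hr0 : (repOf r).2.2 = 0 := by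
    rw [typeA, hdiv] at htA
    exact Nat.eq_of_beq_eq_true htA
  set ψ₂ := MulAut.conj (stElem s)⁻¹ * ψ₁ with hψ₂
  have he2 : ψ₂ (elem [4]) = elem [4] := by
    show (stElem s)⁻¹ * ψ₁ (elem [4]) * ((stElem s)⁻¹)⁻¹ = _
    rw [he1, inv_inv, mul_assoc, stElem_commute s hs, inv_mul_cancel_left]
  have ha2 : ψ₂ (elem [0]) = stElem (repOf r).1 := by
    show (stElem s)⁻¹ * ψ₁ (elem [0]) * ((stElem s)⁻¹)⁻¹ = _
    rw [← hja, inv_inv, mul_assoc, hse, inv_mul_cancel_left]
  obtain ⟨hA0, hA1, hkA, hreps, hempty⟩ := imA_data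
  rcases hreps r hr hr0 with hR | hR <;> rw [hR] at ha2
  swap
  · obtain ⟨e, hel, q, hq, -⟩ := quad_solution hA1 candC1c_ok candB1c_ok candF1c_ok fg1c_ok bc1c_ok
      quad1c_ok ψ₂ he2 ha2
    have := List.all_eq_true.1 hempty e hel
    rw [List.isEmpty_iff] at this
    rw [this] at hq
    exact absurd hq (List.not_mem_nil)
  obtain ⟨e, -, q, -, hsol, hk1, hk2, hq1, hq2, eb, ec, ef, eg⟩ := quad_solution hA0 candC0c_ok
    candB0c_ok candF0c_ok fg0c_ok bc0c_ok quad0c_ok ψ₂ he2 ha2
  simp only [checkSol, force_eq, gate_eq, Bool.and_eq_true] at hsol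
  obtain ⟨ht, hcomA, h1, h2, h5, h6⟩ := hsol
  have htl := blt_lt ht
  have hA : stElem imA0 = elem [0] := keyG_inj (by
    rw [key_stElem hA0, ← kW_spec (by decide)]
    exact Nat.eq_of_beq_eq_true hkA)
  refine ⟨(stElem q.2.2.1)⁻¹ * (stElem s)⁻¹ * g, fun ψ hψ => ?_⟩
  have hval : ∀ x, ψ x = (stElem q.2.2.1)⁻¹ * ψ₂ x * stElem q.2.2.1 := by
    intro x
    rw [hψ]
    show _ * φ x * _ = _ * ((stElem s)⁻¹ * (g * φ x * g⁻¹) * ((stElem s)⁻¹)⁻¹) * _
    group
  refine ⟨?_, ?_, ?_, ?_, ?_⟩
  · rw [hval, ha2, mul_assoc, (com_iff hA0 htl).1 hcomA, inv_mul_cancel_left, hA]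
  · rw [hval, ← eb]; exact move_eq hk1 htl (by norm_num) h1
  · rw [hval, ← ec]; exact move_eq hk2 htl (by norm_num) h2
  · rw [hval, he2, mul_assoc, stElem_commute _ htl, inv_mul_cancel_left]
  · rw [hval, hval, ← ef, ← eg]
    have h5' := fun hx => move_eq hq1 htl hx h5
    have h6' := fun hx => move_eq hq2 htl hx h6
    by_cases hv : q.2.2.2 = 0
    · rw [hv] at h5' h6'
      exact Or.inl ⟨h5' (by decide), h6' (by decide)⟩
    · obtain ⟨v, hv'⟩ := Nat.exists_eq_succ_of_ne_zero hv
      rw [hv'] at h5' h6'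
      exact Or.inr ⟨h5' (by show (6 : Nat) < 7; norm_num), h6' (by show (5 : Nat) < 7; norm_num)⟩

/-- With the others fixed, `d` goes to `d` or to `ede`. -/
theorem d_cases (ψ : MulAut Cfsg.Spor.He) (h0 : ψ (elem [0]) = elem [0])
    (h1 : ψ (elem [1]) = elem [1]) (h2 : ψ (elem [2]) = elem [2]) (h4 : ψ (elem [4]) = elem [4])
    (hfg : (ψ (elem [5]) = elem [5] ∧ ψ (elem [6]) = elem [6]) ∨
      (ψ (elem [5]) = elem [6] ∧ ψ (elem [6]) = elem [5])) :
    ψ (elem [3]) = elem [3] ∨ ψ (elem [3]) = elem [4, 3, 4] := by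
  set D := ψ (elem [3]) with hD
  have hc : ∀ x, x < 2 → D * elem [x] = elem [x] * D := by
    intro x hx
    have hfix : ψ (elem [x]) = elem [x] := by interval_cases x; exacts [h0, h1]
    rw [hD, ← hfix, ← map_mul, ← map_mul, ← elem_append, ← elem_append]
    exact congrArg ψ (elem_rel (by simp; omega) (by simp; omega)
      (by interval_cases x <;> decide +kernel))
  obtain ⟨w, htest, hw, hσ⟩ := Data.search_sound HeSp44.valid HeSp44.spells act act_fwd
    [[0], [1]] 64 testD abLevels abLevels_ok abLevels_tw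
    (by
      have hc := card_range
      exact (le_of_eq hc).trans (by decide +kernel)) search_ok
    ((act D)⁻¹) (inv_mem ⟨D, rfl⟩) (by
      intro zw hzw c
      obtain ⟨x, hx, rfl⟩ : ∃ x, x < 2 ∧ zw = [x] := by
        simp only [List.mem_cons, List.not_mem_nil, or_false] at hzw
        rcases hzw with rfl | rfl
        exacts [⟨0, by norm_num, rfl⟩, ⟨1, by norm_num, rfl⟩]
      have hx7 : ∀ y ∈ [x], y < 7 := by simp; omega
      refine ⟨(act (elem [x]))⁻¹ c, act_elem [x] hx7 c, ?_⟩
      refine (act_elem [x] hx7 _).symm.trans ?_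
      apply congrArg Fin.val
      show ((act (elem [x]))⁻¹ * (act D)⁻¹) c = ((act D)⁻¹ * (act (elem [x]))⁻¹) c
      rw [← mul_inv_rev, ← mul_inv_rev, ← map_mul, ← map_mul, hc x hx])
  have hw7 : ∀ x ∈ w, x < 7 := hw
  have hDw : D = elem w := by
    apply act_inj
    apply inv_injective
    ext c
    exact (hσ c).trans (act_elem w hw7 c).symm
  have hsq : D * D = 1 := by rw [hD, ← map_mul, elem_sq (by norm_num), map_one]
  have hrel : ∀ (m : Nat) (hm : m < 7), Nat.beq (kW [3, m, 3, m, 3, m]) kOne = true →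
      ∀ y, ψ (elem [m]) = y → D * y * D * y * D * y = 1 := by
    intro m hm h y hy
    rw [hD, ← hy, ← map_mul, ← map_mul, ← map_mul, ← map_mul, ← map_mul, ← elem_append,
      ← elem_append, ← elem_append, ← elem_append, ← elem_append, ← map_one ψ, ← elem_nil]
    exact congrArg ψ (elem_rel (by simp; omega) (by simp) h)
  have hcd : elem [2] * D * elem [2] * D * elem [2] * D * elem [2] * D * elem [2] * D =
      elem [0] := by
    rw [hD, ← h2, ← map_mul, ← map_mul, ← map_mul, ← map_mul, ← map_mul, ← map_mul, ← map_mul,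
      ← map_mul, ← map_mul, ← elem_append, ← elem_append, ← elem_append, ← elem_append,
      ← elem_append, ← elem_append, ← elem_append, ← elem_append, ← elem_append, ← h0]
    exact congrArg ψ (elem_rel (by decide) (by decide) (by decide +kernel))
  have hd4 := hrel 4 (by norm_num) (by decide +kernel) _ h4
  have hd56 : D * elem [5] * D * elem [5] * D * elem [5] = 1 ∧
      D * elem [6] * D * elem [6] * D * elem [6] = 1 := by
    rcases hfg with ⟨a5, a6⟩ | ⟨a5, a6⟩
    · exact ⟨hrel 5 (by norm_num) (by decide +kernel) _ a5,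
        hrel 6 (by norm_num) (by decide +kernel) _ a6⟩
    · exact ⟨hrel 6 (by norm_num) (by decide +kernel) _ a6,
        hrel 5 (by norm_num) (by decide +kernel) _ a5⟩
  have hgood : goodD w = true := by
    have hkw : ∀ (l : List Nat) (m : List Nat), (∀ x ∈ l, x < 7) → (∀ x ∈ m, x < 7) →
        elem l = elem m → Nat.beq (kW l) (kW m) = true := fun l m hl hm h => by
      rw [kW_spec hl, kW_spec hm, h]; exact Nat.beq_refl _
    have hk1 : ∀ l : List Nat, (∀ x ∈ l, x < 7) → elem l = 1 →
        Nat.beq (kW l) kOne = true := fun l hl h => by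
      rw [kW_spec hl, kOne_spec, h]; exact Nat.beq_refl _
    have app : ∀ {l m : List Nat}, (∀ x ∈ l, x < 7) → (∀ x ∈ m, x < 7) → ∀ x ∈ l ++ m, x < 7 :=
      fun hl hm x hx => (List.mem_append.1 hx).elim (hl x) (hm x)
    have one : ∀ m, m < 7 → ∀ x ∈ [m], x < 7 := fun m hm x hx =>
      (List.mem_singleton.1 hx).symm ▸ hm
    have trip : ∀ m, m < 7 → D * elem [m] * D * elem [m] * D * elem [m] = 1 →
        Nat.beq (kW (w ++ [m] ++ w ++ [m] ++ w ++ [m])) kOne = true := fun m hm h => by
      refine hk1 _ (app (app (app (app (app hw7 (one m hm)) hw7) (one m hm)) hw7) (one m hm)) ?_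
      rw [elem_append, elem_append, elem_append, elem_append, elem_append, ← hDw]
      exact h
    have g1 : Nat.beq (kW (w ++ [0])) (kW ([0] ++ w)) = true :=
      hkw _ _ (app hw7 (one 0 (by norm_num))) (app (one 0 (by norm_num)) hw7)
        (by rw [elem_append, elem_append, ← hDw]; exact hc 0 (by norm_num))
    have g2 : Nat.beq (kW (w ++ [1])) (kW ([1] ++ w)) = true :=
      hkw _ _ (app hw7 (one 1 (by norm_num))) (app (one 1 (by norm_num)) hw7)
        (by rw [elem_append, elem_append, ← hDw]; exact hc 1 (by norm_num))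
    have g3 : Nat.beq (kW (w ++ w)) kOne = true :=
      hk1 _ (app hw7 hw7) (by rw [elem_append, ← hDw]; exact hsq)
    have g4 := trip 4 (by norm_num) hd4
    have g5 := trip 5 (by norm_num) hd56.1
    have g6 := trip 6 (by norm_num) hd56.2
    have t2 := one 2 (by norm_num)
    have g7 : Nat.beq (kW ([2] ++ w ++ [2] ++ w ++ [2] ++ w ++ [2] ++ w ++ [2] ++ w)) (kW [0])
        = true :=
      hkw _ _ (app (app (app (app (app (app (app (app (app t2 hw7) t2) hw7) t2) hw7) t2) hw7) t2) hw7)
        (one 0 (by norm_num))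
        (by
          rw [elem_append, elem_append, elem_append, elem_append, elem_append, elem_append,
            elem_append, elem_append, elem_append, ← hDw]
          exact hcd)
    simp only [goodD, gate_eq, Bool.and_eq_true]
    exact ⟨g1, g2, g3, g4, g5, g6, g7⟩
  have ht := htest
  simp only [testD, hgood, Bool.not_true, Bool.false_or, Bool.or_eq_true] at ht
  rcases ht with ht | ht
  · exact Or.inl (hDw.trans (elem_rel hw7 (by decide) ht))
  · exact Or.inr (hDw.trans (elem_rel hw7 (by decide) ht))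

theorem tau_not_inner (g : Cfsg.Spor.He) : MulAut.conj g ≠ tau := by
  intro h
  have hv : ∀ b : Cfsg.Spor.He.Gen,
      g * elem [HeSp44.enc b] = elem [sw (HeSp44.enc b)] * g := by
    intro b
    have h1 : MulAut.conj g (gen b) = tau (gen b) := by rw [h]
    rw [tau_gen, MulAut.conj_apply, mul_inv_eq_iff_eq_mul] at h1
    rw [elem_letter]; exact h1
  obtain ⟨i, hi, rfl⟩ := exists_state (g := g) (hv .e).symm
  have hn := notInnerc_ok i hi
  have key : ∀ x y, x < 7 → y < 7 → stElem i * elem [x] = elem [y] * stElem i →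
      moveKey (HeSp44.data.fwd [x]) (keyOf i) = moveKey (stA i) (kW [y]) := by
    intro x y hx hy h
    rw [← key_stElem hi, ← keyG_mul_elem _ _ (by simp [hx]), kW_spec (by simp [hy]),
      ← keyG_mul_st _ hi, h]
  simp only [checkNotInner, force_eq, gate_eq] at hn
  rw [key 0 0 (by norm_num) (by norm_num) (hv .a), key 1 1 (by norm_num) (by norm_num) (hv .b),
    key 2 2 (by norm_num) (by norm_num) (hv .c),
    key 6 5 (by norm_num) (by norm_num) (hv .g)] at hn
  simp at hn

theorem card_out : Nat.card (Cfsg.Out Cfsg.Spor.He) = 2 := by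
  have hall : ∀ φ : MulAut Cfsg.Spor.He, ∃ (g : Cfsg.Spor.He) (ψ : MulAut Cfsg.Spor.He),
      (ψ = 1 ∨ ψ = tau) ∧ φ = MulAut.conj g * ψ := by
    intro φ
    obtain ⟨h, hh⟩ := normal_form φ
    obtain ⟨a0, a1, a2, a4, afg⟩ := hh _ rfl
    have hd := d_cases _ a0 a1 a2 a4 afg
    set χ := MulAut.conj h * φ with hχ
    -- conjugate by `e` if needed
    obtain ⟨k, hk⟩ : ∃ k, (k = 1 ∨ k = elem [4]) ∧
        (MulAut.conj k * χ) (elem [3]) = elem [3] := by
      rcases hd with hd | hd
      · exact ⟨1, Or.inl rfl, by rw [map_one, one_mul, hd]⟩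
      · refine ⟨elem [4], Or.inr rfl, ?_⟩
        show elem [4] * χ (elem [3]) * (elem [4])⁻¹ = _
        rw [hd, elem_inv (by norm_num), ← elem_append, ← elem_append]
        exact elem_rel (by decide) (by decide) (by decide +kernel)
    have hkx : ∀ x, x < 7 → Nat.beq (kW [4, x, 4]) (kW [x]) = true →
        k * elem [x] * k⁻¹ = elem [x] := by
      intro x hx h
      rcases hk.1 with rfl | rfl
      · group
      · rw [elem_inv (by norm_num), ← elem_append, ← elem_append]
        exact elem_rel (by simp; omega) (by simp [hx]) h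
    let ω := MulAut.conj k * χ
    have w0 : ω (elem [0]) = elem [0] := by
      show k * χ _ * k⁻¹ = _; rw [a0]; exact hkx 0 (by norm_num) (by decide +kernel)
    have w1 : ω (elem [1]) = elem [1] := by
      show k * χ _ * k⁻¹ = _; rw [a1]; exact hkx 1 (by norm_num) (by decide +kernel)
    have w2 : ω (elem [2]) = elem [2] := by
      show k * χ _ * k⁻¹ = _; rw [a2]; exact hkx 2 (by norm_num) (by decide +kernel)
    have w4 : ω (elem [4]) = elem [4] := by
      show k * χ _ * k⁻¹ = _; rw [a4]; exact hkx 4 (by norm_num) (by decide +kernel)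
    have w3 : ω (elem [3]) = elem [3] := hk.2
    have k5 := hkx 5 (by norm_num) (by decide +kernel)
    have k6 := hkx 6 (by norm_num) (by decide +kernel)
    have hφ : φ = MulAut.conj (k * h)⁻¹ * ω := by
      show φ = MulAut.conj (k * h)⁻¹ * (MulAut.conj k * (MulAut.conj h * φ))
      rw [← mul_assoc, ← mul_assoc, ← map_mul, ← map_mul, mul_assoc, inv_mul_cancel, map_one,
        one_mul]
    refine ⟨(k * h)⁻¹, ω, ?_, hφ⟩
    rcases afg with ⟨a5, a6⟩ | ⟨a5, a6⟩
    · left
      refine aut_ext fun b => ?_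
      cases b
      · exact w0
      · exact w1
      · exact w2
      · exact w3
      · exact w4
      · show k * χ _ * k⁻¹ = _; erw [a5]; exact k5
      · show k * χ _ * k⁻¹ = _; erw [a6]; exact k6
    · right
      refine aut_ext fun b => ?_
      conv_rhs => rw [elem_letter, tau_gen]
      cases b
      · exact w0
      · exact w1
      · exact w2
      · exact w3
      · exact w4
      · show k * χ _ * k⁻¹ = _; erw [a5]; exact k6
      · show k * χ _ * k⁻¹ = _; erw [a6]; exact k5
  have hinn : ∀ r, MulAut.conj r ∈ Cfsg.Inn Cfsg.Spor.He := fun r => ⟨r, rfl⟩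
  have hnot : tau ∉ Cfsg.Inn Cfsg.Spor.He := fun ⟨r, hr⟩ => tau_not_inner r hr
  rw [show Cfsg.Out Cfsg.Spor.He = (MulAut Cfsg.Spor.He ⧸ Cfsg.Inn Cfsg.Spor.He) from rfl,
    Nat.card_eq_two_iff]
  refine ⟨((1 : MulAut Cfsg.Spor.He) : MulAut Cfsg.Spor.He ⧸ Cfsg.Inn Cfsg.Spor.He),
    ((tau : MulAut Cfsg.Spor.He) : MulAut Cfsg.Spor.He ⧸ Cfsg.Inn Cfsg.Spor.He), ?_, ?_⟩
  · intro e
    rw [QuotientGroup.eq, inv_one, one_mul] at e
    exact hnot e
  · refine Set.eq_univ_of_forall fun q => ?_
    obtain ⟨φ, rfl⟩ := QuotientGroup.mk_surjective q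
    obtain ⟨g, ψ, hψ, rfl⟩ := hall φ
    have key : ((MulAut.conj g * ψ : MulAut Cfsg.Spor.He) :
        MulAut Cfsg.Spor.He ⧸ Cfsg.Inn Cfsg.Spor.He) =
        (ψ : MulAut Cfsg.Spor.He ⧸ Cfsg.Inn Cfsg.Spor.He) := by
      rw [QuotientGroup.mk_mul, (QuotientGroup.eq_one_iff _).mpr (hinn g), one_mul]
    rcases hψ with rfl | rfl
    · exact Or.inl key
    · exact Or.inr key

end Cfsg.Agent.HeOut
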