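import Cfsg.Agent.HeOut.OutDefs

/-! Generated: the checks on the tables for the automorphisms. -/

set_option Elab.async false

namespace Cfsg.Agent.HeOut

open Cfsg.Agent.CosetCert Cfsg.Agent.HeFacts

theorem invcAt0 : allFrom (checkInv) 0 1500 = true := by decide +kernel

theorem invcAt1500 : allFrom (checkInv) 1500 1500 = true := by decide +kernel

theorem invcAt3000 : allFrom (checkInv) 3000 1500 = true := by decide +kernel

theorem invcAt4500 : allFrom (checkInv) 4500 1500 = true := by decide +kernel

theorem invcAt6000 : allFrom (checkInv) 6000 1500 = true := by decide +kernel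

theorem invcAt7500 : allFrom (checkInv) 7500 1500 = true := by decide +kernel

theorem invcAt9000 : allFrom (checkInv) 9000 1500 = true := by decide +kernel

theorem invcAt10500 : allFrom (checkInv) 10500 1500 = true := by decide +kernel

theorem invcAt12000 : allFrom (checkInv) 12000 1500 = true := by decide +kernel

theorem invcAt13500 : allFrom (checkInv) 13500 1500 = true := by decide +kernel

theorem invcAt15000 : allFrom (checkInv) 15000 1500 = true := by decide +kernel

theorem invcAt16500 : allFrom (checkInv) 16500 1500 = true := by decide +kernel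

theorem invcAt18000 : allFrom (checkInv) 18000 1500 = true := by decide +kernel

theorem invcAt19500 : allFrom (checkInv) 19500 1500 = true := by decide +kernel

theorem invcAt21000 : allFrom (checkInv) 21000 504 = true := by decide +kernel

theorem invc_ok : ∀ j, j < 21504 → (checkInv) j = true := by
  have h0 : ∀ j, j < 0 → (checkInv) j = true := forall_lt_zero
  have h1 := forall_lt_step (b := 1500) h0 invcAt0 rfl
  have h2 := forall_lt_step (b := 3000) h1 invcAt1500 rfl
  have h3 := forall_lt_step (b := 4500) h2 invcAt3000 rfl
  have h4 := forall_lt_step (b := 6000) h3 invcAt4500 rfl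
  have h5 := forall_lt_step (b := 7500) h4 invcAt6000 rfl
  have h6 := forall_lt_step (b := 9000) h5 invcAt7500 rfl
  have h7 := forall_lt_step (b := 10500) h6 invcAt9000 rfl
  have h8 := forall_lt_step (b := 12000) h7 invcAt10500 rfl
  have h9 := forall_lt_step (b := 13500) h8 invcAt12000 rfl
  have h10 := forall_lt_step (b := 15000) h9 invcAt13500 rfl
  have h11 := forall_lt_step (b := 16500) h10 invcAt15000 rfl
  have h12 := forall_lt_step (b := 18000) h11 invcAt16500 rfl
  have h13 := forall_lt_step (b := 19500) h12 invcAt18000 rfl
  have h14 := forall_lt_step (b := 21000) h13 invcAt19500 rfl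
  have h15 := forall_lt_step (b := 21504) h14 invcAt21000 rfl
  exact h15

theorem typecAt0 : allFrom (checkType) 0 300 = true := by decide +kernel

theorem typecAt300 : allFrom (checkType) 300 275 = true := by decide +kernel

theorem typec_ok : ∀ j, j < 575 → (checkType) j = true := by
  have h0 : ∀ j, j < 0 → (checkType) j = true := forall_lt_zero
  have h1 := forall_lt_step (b := 300) h0 typecAt0 rfl
  have h2 := forall_lt_step (b := 575) h1 typecAt300 rfl
  exact h2

theorem repc_ok : ∀ r, r < 8 → checkRep r = true := by decide +kernel

theorem letterc_ok : letterData.all checkLetter = true := by decide +kernel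

theorem candC0cAt0 : allFrom (checkC imA0 listC0) 0 575 = true := by decide +kernel

theorem candC0c_ok : ∀ j, j < 575 → (checkC imA0 listC0) j = true := by
  have h0 : ∀ j, j < 0 → (checkC imA0 listC0) j = true := forall_lt_zero
  have h1 := forall_lt_step (b := 575) h0 candC0cAt0 rfl
  exact h1

theorem candB0cAt0 : allFrom (checkB imA0 listB0) 0 575 = true := by decide +kernel

theorem candB0c_ok : ∀ j, j < 575 → (checkB imA0 listB0) j = true := by
  have h0 : ∀ j, j < 0 → (checkB imA0 listB0) j = true := forall_lt_zero
  have h1 := forall_lt_step (b := 575) h0 candB0cAt0 rfl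
  exact h1

theorem candF0cAt0 : allFrom (checkF imA0 listF0) 0 575 = true := by decide +kernel

theorem candF0c_ok : ∀ j, j < 575 → (checkF imA0 listF0) j = true := by
  have h0 : ∀ j, j < 0 → (checkF imA0 listF0) j = true := forall_lt_zero
  have h1 := forall_lt_step (b := 575) h0 candF0cAt0 rfl
  exact h1

theorem fg0c_ok : checkFG listF0 listFG0 = true := by decide +kernel

theorem bc0c_ok : checkBC imA0 listC0 listB0 listBC0 = true := by decide +kernel

theorem candC1cAt0 : allFrom (checkC imA1 listC1) 0 575 = true := by decide +kernel

theorem candC1c_ok : ∀ j, j < 575 → (checkC imA1 listC1) j = true := by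
  have h0 : ∀ j, j < 0 → (checkC imA1 listC1) j = true := forall_lt_zero
  have h1 := forall_lt_step (b := 575) h0 candC1cAt0 rfl
  exact h1

theorem candB1cAt0 : allFrom (checkB imA1 listB1) 0 575 = true := by decide +kernel

theorem candB1c_ok : ∀ j, j < 575 → (checkB imA1 listB1) j = true := by
  have h0 : ∀ j, j < 0 → (checkB imA1 listB1) j = true := forall_lt_zero
  have h1 := forall_lt_step (b := 575) h0 candB1cAt0 rfl
  exact h1

theorem candF1cAt0 : allFrom (checkF imA1 listF1) 0 575 = true := by decide +kernel

theorem candF1c_ok : ∀ j, j < 575 → (checkF imA1 listF1) j = true := by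
  have h0 : ∀ j, j < 0 → (checkF imA1 listF1) j = true := forall_lt_zero
  have h1 := forall_lt_step (b := 575) h0 candF1cAt0 rfl
  exact h1

theorem fg1c_ok : checkFG listF1 listFG1 = true := by decide +kernel

theorem bc1c_ok : checkBC imA1 listC1 listB1 listBC1 = true := by decide +kernel

end Cfsg.Agent.HeOut
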