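import Cfsg.Agent.HeOut.Act
import Cfsg.Agent.HeOut.AbLevels
import Cfsg.Agent.HeOut.OutData

/-! The predicates checked on the tables for the automorphisms. -/

set_option Elab.async false

namespace Cfsg.Agent.HeOut

open Cfsg.Agent.CosetCert Cfsg.Agent.HeFacts

/-- The key of the identity. -/
noncomputable def kOne : Nat := keyOf 0

/-- The key of a word. -/
noncomputable def kW (w : List Nat) : Nat := moveKey (HeSp44.data.fwd w) kOne

/-- The image of a point under a state. -/
noncomputable def stA (i : Nat) : Nat → Nat := stAct 32 i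

/-- The key of a product of two states. -/
noncomputable def kMul (i j : Nat) : Nat := force (keyOf i) fun k => moveKey (stA j) k

/-- The key of a product of states. -/
noncomputable def kProd (l : List Nat) : Nat → Nat :=
  List.rec (motive := fun _ => Nat → Nat) (fun k => k)
    (fun i _ ih k => force (moveKey (stA i) k) ih) l

/-- The square of a state may be one. -/
noncomputable def sqOne (i : Nat) : Bool :=
  gate (force (Nat.mod (keyOf i) 4096) fun c => Nat.beq (stA i c) 0) (Nat.beq (kMul i i) kOne)

noncomputable def invAt (j : Nat) : Nat := get48 invStore j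

/-- A state squaring to one is the root or listed. -/
noncomputable def checkInv (i : Nat) : Bool :=
  gate (reach 32 i) (Bool.rec (motive := fun _ => Bool)
    (Bool.rec (motive := fun _ => Bool) true
      (force (get48 rankStore i) fun j => gate (Nat.blt j 575) (Nat.beq (invAt j) i)) (sqOne i))
    true (Nat.beq i 0))

/-- The class of a representative: the letter, a word and the representative. -/
noncomputable def repOf (r : Nat) : Nat × List Nat × Nat := repData.getD r (0, [], 0)

/-- A listed involution is conjugate to its representative by a state. -/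
noncomputable def checkType (j : Nat) : Bool :=
  force (get48 typeStore j) fun e => force (Nat.mod e 32768) fun s => force (Nat.div e 32768) fun r =>
    gate (Nat.blt (invAt j) 21504) (gate (Nat.blt s 21504) (gate (Nat.blt r 8)
      (Nat.beq (kMul (invAt j) s) (kMul s (repOf r).1))))

noncomputable def typeA (j : Nat) : Bool :=
  Nat.beq (repOf (Nat.div (get48 typeStore j) 32768)).2.2 0

/-- A representative is conjugate to `a` or to `e`. -/
noncomputable def checkRep (r : Nat) : Bool :=
  force (repOf r).1 fun i => gate (Nat.blt i 21504)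
    (gate ((repOf r).2.1.all fun x => Nat.blt x 7)
      (gate (Nat.beq (repOf r).2.2 0 || Nat.beq (repOf r).2.2 4)
        (Nat.beq (moveKey (HeSp44.data.fwd (repOf r).2.1) (keyOf i))
          (kW ((repOf r).2.1 ++ [(repOf r).2.2])))))

/-- A letter is conjugate to `a` or to `e`. -/
noncomputable def checkLetter (d : Nat × List Nat × Nat) : Bool :=
  gate (d.2.1.all fun x => Nat.blt x 7) (Nat.beq (kW (d.1 :: d.2.1)) (kW (d.2.1 ++ [d.2.2])))

noncomputable def member (x : Nat) (l : List Nat) : Bool :=
  List.rec false (fun y _ ih => Bool.rec (motive := fun _ => Bool) ih true (Nat.beq x y)) l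

noncomputable def com (i j : Nat) : Bool := Nat.beq (kMul i j) (kMul j i)

/-- The candidates for the image of `c`. -/
noncomputable def checkC (r : Nat) (l : List Nat) (j : Nat) : Bool :=
  force (invAt j) fun i => !(typeA j && com r i) || member i l

/-- The candidates for the image of `b`. -/
noncomputable def checkB (r : Nat) (l : List Nat) (j : Nat) : Bool :=
  force (invAt j) fun i =>
    !(typeA j && Nat.beq (kProd [r, i, r, i, r, i, r, i] kOne) kOne) || member i l

/-- The candidates for the images of `f` and `g`. -/
noncomputable def checkF (r : Nat) (l : List Nat) (j : Nat) : Bool :=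
  force (invAt j) fun i => !(!typeA j && com r i) || member i l

/-- The pairs of images of `f` and `g` are complete. -/
noncomputable def checkFG (lF : List Nat) (lFG : List (Nat × Nat)) : Bool :=
  lF.all fun l => lF.all fun m => !(Nat.beq (kProd [l, m, l, m] kOne) (kW [4])) ||
    lFG.any fun q => Nat.beq q.1 l && Nat.beq q.2 m

/-- The pairs of images of `b` and `c` are complete. -/
noncomputable def checkBC (r : Nat) (lC lB : List Nat)
    (lBC : List ((Nat × Nat) × List (Nat × Nat × Nat × Nat))) : Bool :=
  lC.all fun j => lB.all fun k =>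
    !(Nat.beq (kProd [k, j, k, j, k, j] kOne) kOne &&
        Nat.beq (kProd [r, k, j, r, k, j, r, k, j] kOne) (kW [4])) ||
      lBC.any fun q => Nat.beq q.1.1 k && Nat.beq q.1.2 j

/-- The letters that `f` and `g` go to. -/
def fgTarget : Nat → Nat × Nat
  | 0 => (5, 6)
  | _ => (6, 5)

/-- The conjugating state of a solution takes it to letters. -/
noncomputable def checkSol (r k j : Nat) (q : Nat × Nat × Nat × Nat) : Bool :=
  force q.2.2.1 fun s => gate (Nat.blt s 21504) (gate (com r s)
    (gate (Nat.beq (kMul k s) (moveKey (HeSp44.data.fwd [1]) (keyOf s)))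
    (gate (Nat.beq (kMul j s) (moveKey (HeSp44.data.fwd [2]) (keyOf s)))
    (gate (Nat.beq (kMul q.1 s) (moveKey (HeSp44.data.fwd [(fgTarget q.2.2.2).1]) (keyOf s)))
      (Nat.beq (kMul q.2.1 s) (moveKey (HeSp44.data.fwd [(fgTarget q.2.2.2).2]) (keyOf s)))))))

/-- The four images commuting as they must are among the solutions. -/
noncomputable def checkQuad (r : Nat) (lFG : List (Nat × Nat))
    (e : (Nat × Nat) × List (Nat × Nat × Nat × Nat)) : Bool :=
  (e.2.all (checkSol r e.1.1 e.1.2)) && lFG.all fun p =>
    !(com e.1.1 p.1 && com e.1.1 p.2 && com e.1.2 p.1 && com e.1.2 p.2) ||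
      e.2.any fun q => Nat.beq q.1 p.1 && Nat.beq q.2.1 p.2

/-- What the image of `d` satisfies when the others are fixed. -/
noncomputable def goodD (w : List Nat) : Bool :=
  gate (Nat.beq (kW (w ++ [0])) (kW ([0] ++ w))) (gate (Nat.beq (kW (w ++ [1])) (kW ([1] ++ w)))
    (gate (Nat.beq (kW (w ++ w)) kOne)
    (gate (Nat.beq (kW (w ++ [4] ++ w ++ [4] ++ w ++ [4])) kOne)
    (gate (Nat.beq (kW (w ++ [5] ++ w ++ [5] ++ w ++ [5])) kOne)
    (gate (Nat.beq (kW (w ++ [6] ++ w ++ [6] ++ w ++ [6])) kOne)
      (Nat.beq (kW ([2] ++ w ++ [2] ++ w ++ [2] ++ w ++ [2] ++ w ++ [2] ++ w)) (kW [0])))))))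

/-- The image of `d` is `d` or `ede`. -/
noncomputable def testD (w : List Nat) : Bool :=
  !(goodD w) || (Nat.beq (kW w) (kW [3]) || Nat.beq (kW w) (kW [4, 3, 4]))

/-- No state fixes `a`, `b`, `c` and exchanges `f` and `g`. -/
noncomputable def checkNotInner (i : Nat) : Bool :=
  force (keyOf i) fun k =>
    !(gate (Nat.beq (moveKey (HeSp44.data.fwd [0]) k) (moveKey (stA i) (kW [0])))
      (gate (Nat.beq (moveKey (HeSp44.data.fwd [1]) k) (moveKey (stA i) (kW [1])))
      (gate (Nat.beq (moveKey (HeSp44.data.fwd [2]) k) (moveKey (stA i) (kW [2])))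
        (Nat.beq (moveKey (HeSp44.data.fwd [6]) k) (moveKey (stA i) (kW [5]))))))

end Cfsg.Agent.HeOut
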